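import Cfsg.Agent.Base

/-!
# Conjugate subgroups and TI subgroups inside an ambient finite group
-/

namespace CL.ClsK

open Subgroup
open scoped Pointwise

variable {G : Type*} [Group G]

/-- The conjugate `g A g⁻¹`, in the form used by the statements. -/
abbrev cj (g : G) (A : Subgroup G) : Subgroup G := A.map (MulAut.conj g).toMonoidHom

theorem mem_cj {g x : G} {A : Subgroup G} : x ∈ cj g A ↔ g⁻¹ * x * g ∈ A := by
  constructor
  · rintro ⟨a, ha, rfl⟩
    simpa [mul_assoc] using ha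
  · intro h
    exact ⟨_, h, by simp [mul_assoc]⟩

theorem conj_mem_cj {g a : G} {A : Subgroup G} (ha : a ∈ A) : g * a * g⁻¹ ∈ cj g A :=
  ⟨a, ha, rfl⟩

theorem conj_mem_cj_iff {g a : G} {A : Subgroup G} : g * a * g⁻¹ ∈ cj g A ↔ a ∈ A := by
  rw [mem_cj]; simp [mul_assoc]

theorem cj_eq_iff {g : G} {A : Subgroup G} : cj g A = A ↔ g ∈ normalizer (A : Set G) :=
  mem_normalizer_iff_map_conj_eq.symm

theorem cj_one (A : Subgroup G) : cj 1 A = A := by
  ext x; simp

theorem cj_cj (g h : G) (A : Subgroup G) : cj g (cj h A) = cj (g * h) A := by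
  ext x; rw [mem_cj, mem_cj, mem_cj]; simp [mul_assoc]

theorem cj_inv_cj (g : G) (A : Subgroup G) : cj g⁻¹ (cj g A) = A := by
  rw [cj_cj, inv_mul_cancel, cj_one]

theorem cj_cj_inv (g : G) (A : Subgroup G) : cj g (cj g⁻¹ A) = A := by
  rw [cj_cj, mul_inv_cancel, cj_one]

theorem cj_injective (g : G) : Function.Injective (cj g : Subgroup G → Subgroup G) :=
  fun A B h => by rw [← cj_inv_cj g A, h, cj_inv_cj]

theorem cj_mono (g : G) {A B : Subgroup G} (h : A ≤ B) : cj g A ≤ cj g B := map_mono h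

theorem cj_inf (g : G) (A B : Subgroup G) : cj g (A ⊓ B) = cj g A ⊓ cj g B := by
  ext x; simp only [mem_cj, mem_inf]

theorem cj_sup (g : G) (A B : Subgroup G) : cj g (A ⊔ B) = cj g A ⊔ cj g B := map_sup _ _ _

theorem cj_bot (g : G) : cj g (⊥ : Subgroup G) = ⊥ := map_bot _

theorem cj_eq_bot_iff {g : G} {A : Subgroup G} : cj g A = ⊥ ↔ A = ⊥ :=
  ⟨fun h => cj_injective g (by rw [h, cj_bot]), fun h => by rw [h, cj_bot]⟩

/-- A subgroup is isomorphic to each of its conjugates. -/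
noncomputable def cjEquiv (g : G) (A : Subgroup G) : A ≃* cj g A :=
  A.equivMapOfInjective _ (MulAut.conj g).injective

theorem card_cj (g : G) (A : Subgroup G) : Nat.card (cj g A) = Nat.card A :=
  (Nat.card_congr (cjEquiv g A).toEquiv).symm

theorem isPGroup_cj {p : ℕ} (g : G) {A : Subgroup G} (h : IsPGroup p A) : IsPGroup p (cj g A) :=
  h.map _

theorem cj_le_of_mem {H A : Subgroup G} {h : G} (hh : h ∈ H) (hA : A ≤ H) : cj h A ≤ H := by
  rintro _ ⟨a, ha, rfl⟩
  exact H.mul_mem (H.mul_mem hh (hA ha)) (H.inv_mem hh)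

theorem cj_le_of_mem_normalizer {H A : Subgroup G} {h : G} (hh : h ∈ normalizer (H : Set G))
    (hA : A ≤ H) : cj h A ≤ H := by
  rw [← cj_eq_iff.2 hh]; exact cj_mono h hA

theorem cj_normalizer (g : G) (A : Subgroup G) :
    cj g (normalizer (A : Set G)) = normalizer (cj g A : Set G) :=
  map_equiv_normalizer_eq A (MulAut.conj g)

theorem cj_centralizer (g : G) (A : Subgroup G) :
    cj g (centralizer (A : Set G)) = centralizer (cj g A : Set G) := by
  ext x
  rw [mem_cj, mem_centralizer_iff, mem_centralizer_iff]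
  constructor
  · rintro h _ ⟨a, ha, rfl⟩
    have := h a ha
    simp only [MulEquiv.toMonoidHom_eq_coe, MonoidHom.coe_coe, MulAut.conj_apply]
    calc g * a * g⁻¹ * x = g * (a * (g⁻¹ * x * g)) * g⁻¹ := by group
      _ = g * (g⁻¹ * x * g * a) * g⁻¹ := by rw [this]
      _ = x * (g * a * g⁻¹) := by group
  · intro h a ha
    have := h _ (conj_mem_cj (g := g) ha)
    calc a * (g⁻¹ * x * g) = g⁻¹ * (g * a * g⁻¹ * x) * g := by group
      _ = g⁻¹ * (x * (g * a * g⁻¹)) * g := by rw [this]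
      _ = g⁻¹ * x * g * a := by group

theorem cj_centralizer_singleton (g z : G) :
    cj g (centralizer ({z} : Set G)) = centralizer ({g * z * g⁻¹} : Set G) := by
  ext x
  rw [mem_cj, mem_centralizer_singleton_iff, mem_centralizer_singleton_iff]
  constructor
  · intro h
    calc x * (g * z * g⁻¹) = g * (g⁻¹ * x * g * z) * g⁻¹ := by group
      _ = g * (z * (g⁻¹ * x * g)) * g⁻¹ := by rw [h]
      _ = g * z * g⁻¹ * x := by group
  · intro h
    calc g⁻¹ * x * g * z = g⁻¹ * (x * (g * z * g⁻¹)) * g := by group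
      _ = g⁻¹ * (g * z * g⁻¹ * x) * g := by rw [h]
      _ = z * (g⁻¹ * x * g) := by group

theorem comm_cj {A : Subgroup G} (hA : ∀ a ∈ A, ∀ b ∈ A, a * b = b * a) (g : G) :
    ∀ a ∈ cj g A, ∀ b ∈ cj g A, a * b = b * a := by
  rintro _ ⟨a, ha, rfl⟩ _ ⟨b, hb, rfl⟩
  rw [← map_mul, ← map_mul, hA a ha b hb]

theorem comm_of_isMulCommutative {A : Subgroup G} (hA : IsMulCommutative A) :
    ∀ a ∈ A, ∀ b ∈ A, a * b = b * a := fun a ha b hb =>
  congrArg Subtype.val (hA.is_comm.comm ⟨a, ha⟩ ⟨b, hb⟩)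

theorem isMulCommutative_of_comm {A : Subgroup G} (hA : ∀ a ∈ A, ∀ b ∈ A, a * b = b * a) :
    IsMulCommutative A := ⟨⟨fun a b => Subtype.ext (hA a a.2 b b.2)⟩⟩

theorem commutator_eq_bot_iff' {A B : Subgroup G} :
    ⁅A, B⁆ = ⊥ ↔ ∀ a ∈ A, ∀ b ∈ B, a * b = b * a := by
  rw [commutator_eq_bot_iff_le_centralizer]
  exact ⟨fun h a ha b hb => (h ha b hb).symm, fun h a ha b hb => (h a ha b hb).symm⟩

theorem conj_mem_of_mem_normalizer {A : Subgroup G} {g a : G} (hg : g ∈ normalizer (A : Set G))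
    (ha : a ∈ A) : g * a * g⁻¹ ∈ A := (mem_normalizer_iff.1 hg a).1 ha

theorem conj_inv_mem_of_mem_normalizer {A : Subgroup G} {g a : G}
    (hg : g ∈ normalizer (A : Set G)) (ha : a ∈ A) : g⁻¹ * a * g ∈ A := by
  simpa using conj_mem_of_mem_normalizer (inv_mem hg) ha

theorem mem_normalizer_of_conj_mem [Finite G] {A : Subgroup G} {g : G}
    (h : ∀ a ∈ A, g * a * g⁻¹ ∈ A) : g ∈ normalizer (A : Set G) :=
  mem_normalizer_fintype h

/-- `A` is a TI subgroup: it meets each conjugate in itself or trivially. -/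
def IsTI (A : Subgroup G) : Prop := ∀ g : G, cj g A = A ∨ cj g A ⊓ A = ⊥

theorem IsTI.mem_normalizer {A : Subgroup G} (hA : IsTI A) {g a : G} (ha : a ∈ A) (ha1 : a ≠ 1)
    (hga : g * a * g⁻¹ ∈ A) : g ∈ normalizer (A : Set G) := by
  rcases hA g with h | h
  · exact cj_eq_iff.1 h
  · exfalso
    have : g * a * g⁻¹ ∈ cj g A ⊓ A := ⟨conj_mem_cj ha, hga⟩
    rw [h, mem_bot] at this
    apply ha1
    calc a = g⁻¹ * (g * a * g⁻¹) * g := by group
      _ = 1 := by rw [this]; group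

theorem IsTI.mem_normalizer_of_comm {A : Subgroup G} (hA : IsTI A) {g a : G} (ha : a ∈ A)
    (ha1 : a ≠ 1) (hga : g * a = a * g) : g ∈ normalizer (A : Set G) :=
  hA.mem_normalizer ha ha1 (by rw [hga]; simpa using ha)

theorem IsTI.cj {A : Subgroup G} (hA : IsTI A) (h : G) : IsTI (cj h A) := by
  intro g
  rcases hA (h⁻¹ * g * h) with h1 | h1
  · left
    calc ClsK.cj g (ClsK.cj h A) = ClsK.cj h (ClsK.cj (h⁻¹ * g * h) A) := by
          rw [cj_cj, cj_cj]; congr 1; group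
      _ = _ := by rw [h1]
  · right
    calc ClsK.cj g (ClsK.cj h A) ⊓ ClsK.cj h A
        = ClsK.cj h (ClsK.cj (h⁻¹ * g * h) A ⊓ A) := by
          rw [cj_inf, cj_cj, cj_cj]; congr 2; group
      _ = _ := by rw [h1, cj_bot]

theorem IsTI.cj_eq_or {A : Subgroup G} (hA : IsTI A) (g h : G) :
    ClsK.cj g A = ClsK.cj h A ∨ ClsK.cj g A ⊓ ClsK.cj h A = ⊥ := by
  have := hA.cj h (g * h⁻¹)
  rwa [cj_cj, inv_mul_cancel_right] at this

theorem isTI_of_mem_normalizer {A : Subgroup G}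
    (h : ∀ g : G, ∀ a ∈ A, a ≠ 1 → g * a * g⁻¹ ∈ A → g ∈ normalizer (A : Set G)) : IsTI A := by
  intro g
  by_cases hg : cj g A = A
  · exact Or.inl hg
  · right
    rw [eq_bot_iff]
    rintro _ ⟨⟨a, ha, rfl⟩, h2⟩
    by_contra hne
    apply hg
    refine cj_eq_iff.2 (h g a ha ?_ h2)
    rintro rfl
    simp at hne

/-- Normalizers grow in `p`-subgroups. -/
theorem exists_mem_normalizer_of_lt [Finite G] {p : ℕ} [Fact p.Prime] {K P : Subgroup G}
    (hP : IsPGroup p P) (hKP : K < P) : ∃ x ∈ P, x ∉ K ∧ x ∈ normalizer (K : Set G) := by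
  have := hP.isNilpotent
  have hnc : NormalizerCondition P := Group.normalizerCondition_of_isNilpotent
  have h1 : K.subgroupOf P < ⊤ := by
    rw [lt_top_iff_ne_top, Ne, subgroupOf_eq_top]
    exact not_le_of_gt hKP
  obtain ⟨x, hx, hxK⟩ := SetLike.exists_of_lt (hnc _ h1)
  rw [← subgroupOf_normalizer_eq hKP.le] at hx
  exact ⟨x, x.2, hxK, hx⟩

/-- A proper subgroup of a `p`-subgroup `P` lies in a proper subgroup of `P` normalized by `P`. -/
theorem exists_normal_lt_of_lt [Finite G] {p : ℕ} [Fact p.Prime] {K P : Subgroup G}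
    (hP : IsPGroup p P) (hKP : K < P) :
    ∃ M : Subgroup G, K ≤ M ∧ M < P ∧ P ≤ normalizer (M : Set G) := by
  have := hP.isNilpotent
  have hnc : NormalizerCondition P := Group.normalizerCondition_of_isNilpotent
  have h1 : K.subgroupOf P ≠ ⊤ := by
    rw [Ne, subgroupOf_eq_top]
    exact not_le_of_gt hKP
  obtain ⟨M, hM, hKM⟩ := (eq_top_or_exists_le_coatom _).resolve_left h1
  have hMn : M.Normal := hnc.normal_of_coatom M hM
  refine ⟨M.map P.subtype, ?_, ?_, ?_⟩
  · intro k hk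
    exact ⟨⟨k, hKP.le hk⟩, hKM hk, rfl⟩
  · refine lt_of_le_of_ne (map_subtype_le M) ?_
    intro h
    apply hM.1
    rw [eq_top_iff]
    intro x _
    have : (x : G) ∈ M.map P.subtype := by rw [h]; exact x.2
    obtain ⟨y, hy, hyx⟩ := this
    rwa [← Subtype.ext hyx]
  · rw [le_normalizer_iff]
    rintro h hh _ ⟨k, hk, rfl⟩
    exact ⟨_, hMn.conj_mem k hk ⟨h, hh⟩, rfl⟩

/-- A nontrivial `p`-subgroup contains an element of order `p`. -/
theorem exists_orderOf_eq_of_ne_bot [Finite G] {p : ℕ} [Fact p.Prime] {P : Subgroup G}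
    (hP : IsPGroup p P) (h : P ≠ ⊥) : ∃ x ∈ P, orderOf x = p := by
  have hnt : Nontrivial P := (nontrivial_iff_ne_bot _).2 h
  obtain ⟨n, hn, hcard⟩ := hP.nontrivial_iff_card.1 hnt
  obtain ⟨x, hx⟩ := exists_prime_orderOf_dvd_card' (G := P) p
    (by rw [hcard]; exact dvd_pow_self p hn.ne')
  exact ⟨x, x.2, by rw [← hx]; simp⟩

/-- A nontrivial subgroup `N` normalized by a `p`-subgroup `P ≥ N` meets the centre of `P`. -/
theorem exists_central_of_ne_bot [Finite G] {p : ℕ} [Fact p.Prime] {N P : Subgroup G}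
    (hP : IsPGroup p P) (hNP : N ≤ P) (hn : P ≤ normalizer (N : Set G)) (h : N ≠ ⊥) :
    ∃ x ∈ N, x ≠ 1 ∧ ∀ y ∈ P, y * x = x * y := by
  let act : MulAction P N :=
    { smul := fun g x => ⟨g * x * (g : G)⁻¹, conj_mem_of_mem_normalizer (hn g.2) x.2⟩
      one_smul := fun x => Subtype.ext (by
        show ((1 : P) : G) * x * ((1 : P) : G)⁻¹ = x
        simp)
      mul_smul := fun g h x => Subtype.ext (by
        show ((g * h : P) : G) * x * ((g * h : P) : G)⁻¹ = g * (h * x * (h : G)⁻¹) * (g : G)⁻¹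
        simp [mul_assoc]) }
  have hsm : ∀ (g : P) (x : N), ((g • x : N) : G) = g * x * (g : G)⁻¹ := fun _ _ => rfl
  have hNp : IsPGroup p N := hP.to_le hNP
  have hnt : Nontrivial N := (nontrivial_iff_ne_bot _).2 h
  obtain ⟨n, hn', hcard⟩ := hNp.nontrivial_iff_card.1 hnt
  have h1 : (1 : N) ∈ MulAction.fixedPoints P N := by
    intro g
    apply Subtype.ext
    rw [hsm]; simp
  obtain ⟨b, hb, hb1⟩ := hP.exists_fixed_point_of_prime_dvd_card_of_fixed_point N
    (by rw [hcard]; exact dvd_pow_self p hn'.ne') h1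
  refine ⟨b, b.2, fun h => hb1 (Subtype.ext h.symm), fun y hy => ?_⟩
  have := congrArg Subtype.val (hb ⟨y, hy⟩)
  rw [hsm] at this
  calc y * b = y * b * y⁻¹ * y := by group
    _ = b * y := by rw [this]

theorem exists_mul_of_mem_sup {A B : Subgroup G} (hN : B ≤ normalizer (A : Set G)) {x : G}
    (hx : x ∈ A ⊔ B) : ∃ a ∈ A, ∃ b ∈ B, a * b = x := by
  have hx' : x ∈ ((A : Set G) * (B : Set G)) := by
    rw [← coe_mul_of_right_le_normalizer_left A B hN]; exact hx
  obtain ⟨a, ha, b, hb, rfl⟩ := hx'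
  exact ⟨a, ha, b, hb, rfl⟩

/-- TI lemma: if `B` normalizes `A`, they meet trivially, `|A| ≤ |B|` and `B` is TI with respect to
the elements of `A`, then `A` and `B` commute. -/
theorem comm_of_ti_normalizes [Finite G] {p : ℕ} [Fact p.Prime] {A B : Subgroup G}
    (hA : IsPGroup p A) (hB : IsPGroup p B)
    (hBti : ∀ a ∈ A, ∀ b ∈ B, b ≠ 1 → a * b * a⁻¹ ∈ B → a ∈ normalizer (B : Set G))
    (hle : Nat.card A ≤ Nat.card B) (hAB : A ⊓ B = ⊥) (hN : B ≤ normalizer (A : Set G)) :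
    ∀ a ∈ A, ∀ b ∈ B, a * b = b * a := by
  have hcomm : ∀ a ∈ A, a ∈ normalizer (B : Set G) → ∀ b ∈ B, a * b = b * a := by
    intro a ha haB b hb
    have h1 : a * b * a⁻¹ * b⁻¹ ∈ A ⊓ B := by
      refine ⟨?_, B.mul_mem (conj_mem_of_mem_normalizer haB hb) (B.inv_mem hb)⟩
      have := A.mul_mem ha (conj_mem_of_mem_normalizer (hN hb) (A.inv_mem ha))
      simpa [mul_assoc] using this
    rw [hAB, mem_bot] at h1
    calc a * b = a * b * a⁻¹ * b⁻¹ * (b * a) := by group
      _ = b * a := by rw [h1, one_mul]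
  suffices h : A ≤ normalizer (B : Set G) from fun a ha => hcomm a ha (h ha)
  by_contra hnot
  set N := A ⊓ normalizer (B : Set G) with hNdef
  have hP : IsPGroup p (A ⊔ B : Subgroup G) := IsPGroup.to_sup_of_normal_left' hA hB hN
  have hK : N ⊔ B ≤ normalizer (B : Set G) := sup_le inf_le_right le_normalizer
  have hlt : N ⊔ B < A ⊔ B := by
    refine lt_of_le_of_ne (sup_le_sup_right inf_le_left _) ?_
    intro h
    exact hnot (le_sup_left.trans (h ▸ hK))
  obtain ⟨x, hxP, hxK, hxN⟩ := exists_mem_normalizer_of_lt hP hlt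
  obtain ⟨a, ha, b, hb, rfl⟩ := exists_mul_of_mem_sup hN hxP
  have hbK : b ∈ N ⊔ B := mem_sup_right hb
  have haK : a ∉ N ⊔ B := fun h => hxK (mul_mem h hbK)
  have haN : a ∈ normalizer ((N ⊔ B : Subgroup G) : Set G) := by
    have := mul_mem hxN (inv_mem (le_normalizer hbK))
    simpa using this
  have haB : a ∉ normalizer (B : Set G) := fun h => haK (mem_sup_left ⟨ha, h⟩)
  have hf : ∀ c ∈ B, a * c * a⁻¹ * c⁻¹ ∈ N := by
    intro c hc
    refine ⟨?_, hK ?_⟩
    · have := A.mul_mem ha (conj_mem_of_mem_normalizer (hN hc) (A.inv_mem ha))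
      simpa [mul_assoc] using this
    · exact mul_mem (conj_mem_of_mem_normalizer haN (mem_sup_right hc))
        (inv_mem (mem_sup_right hc))
  let f : B → N := fun c => ⟨a * c * a⁻¹ * (c : G)⁻¹, hf c c.2⟩
  have hinj : Function.Injective f := by
    intro c d hcd
    have h1 : a * c * a⁻¹ * (c : G)⁻¹ = a * d * a⁻¹ * (d : G)⁻¹ := congrArg Subtype.val hcd
    by_contra hne
    apply haB
    refine hBti a ha ((d : G)⁻¹ * c) (B.mul_mem (B.inv_mem d.2) c.2) ?_ ?_
    · intro h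
      apply hne
      apply Subtype.ext
      calc (c : G) = d * ((d : G)⁻¹ * c) := by group
        _ = d := by rw [h, mul_one]
    · have : a * ((d : G)⁻¹ * c) * a⁻¹ = (d : G)⁻¹ * c := by
        calc a * ((d : G)⁻¹ * c) * a⁻¹
            = a * (d : G)⁻¹ * a⁻¹ * (a * c * a⁻¹ * (c : G)⁻¹) * c := by group
          _ = a * (d : G)⁻¹ * a⁻¹ * (a * d * a⁻¹ * (d : G)⁻¹) * c := by rw [h1]
          _ = (d : G)⁻¹ * c := by group
      rw [this]
      exact B.mul_mem (B.inv_mem d.2) c.2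
  have h1 : Nat.card B ≤ Nat.card N := Nat.card_le_card_of_injective f hinj
  have h2 : N = A := eq_of_le_of_card_ge inf_le_left (hle.trans h1)
  exact hnot (h2 ▸ inf_le_right)

end CL.ClsK
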