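import Cfsg.Agent.Base
import Cfsg.Agent.ClsK.TI

/-!
# Extraspecial-like 2-subgroups of an ambient group

`IsXS Q z`: `z` is an involution in the centre of `Q`, all commutators and squares of `Q` lie in
`{1, z}`, and `z` is the only involution of the centre of `Q`.
-/

namespace CL.ClsK

open Subgroup
open scoped commutatorElement

variable {G : Type*} [Group G]

/-- A proper "index two" overgroup missing a given element, when all squares lie in `W`. -/
theorem exists_index_two [Finite G] {Q W : Subgroup G} (hWQ : W ≤ Q)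
    (hsq : ∀ a ∈ Q, a * a ∈ W) {w : G} (hwW : w ∉ W) :
    ∃ M : Subgroup G, W ≤ M ∧ M ≤ Q ∧ w ∉ M ∧
      (w ∈ Q → ∀ x ∈ Q, ∀ y ∈ Q, x ∉ M → y ∉ M → x * y ∈ M) := by
  obtain ⟨M, hWM, hmax⟩ := Finite.exists_le_maximal (p := fun M : Subgroup G => M ≤ Q ∧ w ∉ M)
    (a := W) ⟨hWQ, hwW⟩
  obtain ⟨⟨hMQ, hwM⟩, hmax⟩ := hmax
  have hsqM : ∀ a ∈ Q, a * a ∈ M := fun a ha => hWM (hsq a ha)
  have hswap : ∀ a ∈ Q, ∀ b ∈ Q, a * b ∈ M → b * a ∈ M := by
    intro a ha b hb h
    have h2 : b * a = (b * a * (b * a)) * (a * a)⁻¹ * (a * b⁻¹) := by group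
    have h3 : a * b⁻¹ = (a * b) * (b * b)⁻¹ := by group
    rw [h2, h3]
    exact M.mul_mem (M.mul_mem (hsqM _ (Q.mul_mem hb ha)) (M.inv_mem (hsqM a ha)))
      (M.mul_mem h (M.inv_mem (hsqM b hb)))
  have key : w ∈ Q → ∀ x ∈ Q, x ∉ M → w * x ∈ M := by
    intro hw x hx hxM
    let L : Subgroup G :=
      { carrier := {g | g ∈ M ∨ (g ∈ Q ∧ g * x ∈ M)}
        one_mem' := Or.inl M.one_mem
        inv_mem' := by
          rintro g (hg | ⟨hgQ, hg⟩)
          · exact Or.inl (M.inv_mem hg)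
          · refine Or.inr ⟨Q.inv_mem hgQ, ?_⟩
            have : g⁻¹ * x = (g * g)⁻¹ * (g * x) := by group
            rw [this]; exact M.mul_mem (M.inv_mem (hsqM g hgQ)) hg
        mul_mem' := by
          rintro a b (ha | ⟨haQ, ha⟩) (hb | ⟨hbQ, hb⟩)
          · exact Or.inl (M.mul_mem ha hb)
          · exact Or.inr ⟨Q.mul_mem (hMQ ha) hbQ, by rw [mul_assoc]; exact M.mul_mem ha hb⟩
          · refine Or.inr ⟨Q.mul_mem haQ (hMQ hb), ?_⟩
            apply hswap x hx _ (Q.mul_mem haQ (hMQ hb))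
            rw [← mul_assoc]
            exact M.mul_mem (hswap a haQ x hx ha) hb
          · refine Or.inl ?_
            have h1 := M.mul_mem (M.mul_mem ha (M.inv_mem (hsqM x hx))) (hswap b hbQ x hx hb)
            have : a * x * (x * x)⁻¹ * (x * b) = a * b := by group
            rwa [this] at h1 }
    have hLQ : L ≤ Q := by
      rintro g (hg | ⟨hg, -⟩)
      · exact hMQ hg
      · exact hg
    have hwL : w ∈ L := by
      by_contra h
      have := hmax (y := L) ⟨hLQ, h⟩ (fun g hg => Or.inl hg)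
      exact hxM (this (Or.inr ⟨hx, hsqM x hx⟩))
    rcases hwL with h | h
    · exact absurd h hwM
    · exact h.2
  refine ⟨M, hWM, hMQ, hwM, fun hw x hx y hy hxM hyM => ?_⟩
  have h1 := M.mul_mem (M.mul_mem (hswap w hw x hx (key hw x hx hxM)) (M.inv_mem (hsqM w hw)))
    (key hw y hy hyM)
  have : x * w * (w * w)⁻¹ * (w * y) = x * y := by group
  rwa [this] at h1

/-- Extraspecial-like 2-subgroup with distinguished central involution `z`. -/
structure IsXS (Q : Subgroup G) (z : G) : Prop where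
  mem : z ∈ Q
  ne_one : z ≠ 1
  sq : z * z = 1
  central : ∀ q ∈ Q, q * z = z * q
  comm : ∀ a ∈ Q, ∀ b ∈ Q, ⁅a, b⁆ = 1 ∨ ⁅a, b⁆ = z
  sq_mem : ∀ a ∈ Q, a * a = 1 ∨ a * a = z
  omega : ∀ a ∈ Q, (∀ b ∈ Q, a * b = b * a) → a * a = 1 → a = 1 ∨ a = z

namespace IsXS

variable {Q : Subgroup G} {z : G}

theorem inv_z (h : IsXS Q z) : z⁻¹ = z := inv_eq_of_mul_eq_one_right h.sq

theorem zp_mul (h : IsXS Q z) {x y : G} (hx : x = 1 ∨ x = z) (hy : y = 1 ∨ y = z) :
    x * y = 1 ∨ x * y = z := by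
  rcases hx with rfl | rfl <;> rcases hy with rfl | hy <;> simp_all [h.sq]

theorem zp_inv (h : IsXS Q z) {x : G} (hx : x = 1 ∨ x = z) : x⁻¹ = x := by
  rcases hx with rfl | rfl
  · simp
  · exact h.inv_z

theorem zp_sq (h : IsXS Q z) {x : G} (hx : x = 1 ∨ x = z) : x * x = 1 := by
  rcases hx with rfl | rfl
  · simp
  · exact h.sq

theorem zp_mem (h : IsXS Q z) {x : G} (hx : x = 1 ∨ x = z) : x ∈ Q := by
  rcases hx with rfl | rfl
  · exact Q.one_mem
  · exact h.mem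

theorem zp_comm (_h : IsXS Q z) {x g : G} (hx : x = 1 ∨ x = z) (hg : g * z = z * g) :
    g * x = x * g := by
  rcases hx with rfl | rfl
  · simp
  · exact hg

theorem mem_zpowers_iff (h : IsXS Q z) {x : G} : x ∈ zpowers z ↔ x = 1 ∨ x = z := by
  constructor
  · rintro ⟨k, rfl⟩
    rcases Int.even_or_odd' k with ⟨m, rfl | rfl⟩
    · left
      show z ^ (2 * m) = 1
      rw [zpow_mul, zpow_two, h.sq, one_zpow]
    · right
      show z ^ (2 * m + 1) = z
      rw [zpow_add, zpow_mul, zpow_two, h.sq, one_zpow, one_mul, zpow_one]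
  · rintro (rfl | rfl)
    · exact one_mem _
    · exact mem_zpowers _

theorem conj_z (h : IsXS Q z) {t : G} (ht : t ∈ normalizer (Q : Set G)) : t * z = z * t := by
  have h1 : t * z * t⁻¹ = 1 ∨ t * z * t⁻¹ = z := by
    refine h.omega _ (conj_mem_of_mem_normalizer ht h.mem) (fun b hb => ?_) ?_
    · have := h.central _ (conj_inv_mem_of_mem_normalizer ht hb)
      calc t * z * t⁻¹ * b = t * (z * (t⁻¹ * b * t)) * t⁻¹ := by group
        _ = t * (t⁻¹ * b * t * z) * t⁻¹ := by rw [this]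
        _ = _ := by group
    · calc t * z * t⁻¹ * (t * z * t⁻¹) = t * (z * z) * t⁻¹ := by group
        _ = 1 := by rw [h.sq]; group
  rcases h1 with h1 | h1
  · exfalso
    apply h.ne_one
    calc z = t⁻¹ * (t * z * t⁻¹) * t := by group
      _ = 1 := by rw [h1]; group
  · calc t * z = t * z * t⁻¹ * t := by group
      _ = z * t := by rw [h1]

theorem comm_mul_left (h : IsXS Q z) {a b c : G} (ha : a ∈ Q) (hb : b ∈ Q) (hc : c ∈ Q) :
    ⁅a * b, c⁆ = ⁅a, c⁆ * ⁅b, c⁆ := by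
  have h1 := h.zp_comm (h.comm b hb c hc) (h.central a ha)
  have h2 := h.zp_comm (h.comm b hb c hc) (h.central _ (h.zp_mem (h.comm a ha c hc)))
  calc ⁅a * b, c⁆ = a * ⁅b, c⁆ * a⁻¹ * ⁅a, c⁆ := by simp only [commutatorElement_def]; group
    _ = ⁅b, c⁆ * ⁅a, c⁆ := by rw [h1]; group
    _ = _ := h2.symm

theorem comm_mul_right (h : IsXS Q z) {a b c : G} (ha : a ∈ Q) (hb : b ∈ Q) (hc : c ∈ Q) :
    ⁅a, b * c⁆ = ⁅a, b⁆ * ⁅a, c⁆ := by
  have h1 := h.zp_comm (h.comm a ha c hc) (h.central b hb)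
  calc ⁅a, b * c⁆ = ⁅a, b⁆ * (b * ⁅a, c⁆) * b⁻¹ := by simp only [commutatorElement_def]; group
    _ = _ := by rw [h1]; group

theorem comm_symm (h : IsXS Q z) {a b : G} (ha : a ∈ Q) (hb : b ∈ Q) : ⁅a, b⁆ = ⁅b, a⁆ := by
  rw [← commutatorElement_inv, h.zp_inv (h.comm b hb a ha)]

theorem comm_inv_left (h : IsXS Q z) {a b : G} (ha : a ∈ Q) (hb : b ∈ Q) :
    ⁅a⁻¹, b⁆ = ⁅a, b⁆ := by
  have h1 := h.comm_mul_left (Q.inv_mem ha) ha hb
  rw [inv_mul_cancel, commutatorElement_one_left] at h1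
  rw [eq_inv_of_mul_eq_one_left h1.symm, h.zp_inv (h.comm a ha b hb)]

theorem comm_inv_right (h : IsXS Q z) {a b : G} (ha : a ∈ Q) (hb : b ∈ Q) :
    ⁅a, b⁻¹⁆ = ⁅a, b⁆ := by
  rw [h.comm_symm ha (Q.inv_mem hb), h.comm_inv_left hb ha, h.comm_symm hb ha]

theorem comm_conj (h : IsXS Q z) {t a b : G} (ht : t * z = z * t) (ha : a ∈ Q) (hb : b ∈ Q) :
    ⁅t * a * t⁻¹, t * b * t⁻¹⁆ = ⁅a, b⁆ := by
  rw [← conjugate_commutatorElement, h.zp_comm (h.comm a ha b hb) ht]; group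

theorem comm_zp_left (h : IsXS Q z) {x b : G} (hx : x = 1 ∨ x = z) (hb : b ∈ Q) : ⁅x, b⁆ = 1 :=
  commutatorElement_eq_one_iff_mul_comm.2 (h.zp_comm hx (h.central b hb)).symm

theorem comm_zp_right (h : IsXS Q z) {x b : G} (hx : x = 1 ∨ x = z) (hb : b ∈ Q) : ⁅b, x⁆ = 1 :=
  commutatorElement_eq_one_iff_mul_comm.2 (h.zp_comm hx (h.central b hb))

theorem comm_eq_z (h : IsXS Q z) {a b : G} (ha : a ∈ Q) (hb : b ∈ Q) (hab : a * b ≠ b * a) :
    ⁅a, b⁆ = z :=
  (h.comm a ha b hb).resolve_left fun h1 => hab (commutatorElement_eq_one_iff_mul_comm.1 h1)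

theorem conj_eq_mul_z (h : IsXS Q z) {a b : G} (ha : a ∈ Q) (hb : b ∈ Q) (hab : a * b ≠ b * a) :
    a * b * a⁻¹ = z * b := by
  rw [← h.comm_eq_z ha hb hab, commutatorElement_def]; group

/-- The centralizer of an element of `Q` has index at most two in `Q`. -/
theorem comm_mul_of_not_comm (h : IsXS Q z) {a x y : G} (ha : a ∈ Q) (hx : x ∈ Q) (hy : y ∈ Q)
    (h1 : a * x ≠ x * a) (h2 : a * y ≠ y * a) : a * (x * y) = x * y * a := by
  rw [← commutatorElement_eq_one_iff_mul_comm, h.comm_mul_right ha hx hy, h.comm_eq_z ha hx h1,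
    h.comm_eq_z ha hy h2, h.sq]

theorem isPGroup (h : IsXS Q z) : IsPGroup 2 Q := by
  intro q
  refine ⟨2, Subtype.ext ?_⟩
  have : (q : G) ^ 2 ^ 2 = (q * q) * (q * q) := by norm_num [pow_succ, mul_assoc]
  rw [SubgroupClass.coe_pow, this, h.zp_sq (h.sq_mem q q.2)]; rfl

theorem cj (h : IsXS Q z) (g : G) : IsXS (ClsK.cj g Q) (g * z * g⁻¹) where
  mem := conj_mem_cj h.mem
  ne_one := fun h1 => h.ne_one (by simpa using h1)
  sq := by
    calc g * z * g⁻¹ * (g * z * g⁻¹) = g * (z * z) * g⁻¹ := by group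
      _ = 1 := by rw [h.sq]; group
  central := by
    rintro _ ⟨q, hq, rfl⟩
    show MulAut.conj g q * MulAut.conj g z = MulAut.conj g z * MulAut.conj g q
    rw [← map_mul, ← map_mul, h.central q hq]
  comm := by
    rintro _ ⟨a, ha, rfl⟩ _ ⟨b, hb, rfl⟩
    rw [← map_commutatorElement]
    rcases h.comm a ha b hb with h1 | h1 <;> rw [h1] <;> simp
  sq_mem := by
    rintro _ ⟨a, ha, rfl⟩
    rw [← map_mul]
    rcases h.sq_mem a ha with h1 | h1 <;> rw [h1] <;> simp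
  omega := by
    rintro _ ⟨a, ha, rfl⟩ h1 h2
    have h3 : ∀ b ∈ Q, a * b = b * a := fun b hb => by
      have := h1 _ ⟨b, hb, rfl⟩
      rw [← map_mul, ← map_mul] at this
      exact (MulAut.conj g).injective this
    have h4 : a * a = 1 := by
      rw [← map_mul] at h2
      exact (MulAut.conj g).injective (h2.trans (map_one _).symm)
    rcases h.omega a ha h3 h4 with h5 | h5 <;> rw [h5] <;> simp

open Classical in
/-- Every subgroup of index at most two containing the centre is the centralizer of an element. -/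
theorem exists_centralizer_eq [Finite G] (h : IsXS Q z) {M : Subgroup G}
    (hZ : ∀ c ∈ Q, (∀ b ∈ Q, c * b = b * c) → c ∈ M)
    (hM : ∀ x ∈ Q, ∀ y ∈ Q, x ∉ M → y ∉ M → x * y ∈ M) :
    ∃ a ∈ Q, ∀ b ∈ Q, (a * b = b * a ↔ b ∈ M) := by
  let sg : Prop → ℂˣ := fun p => if p then 1 else -1
  have hsg : ∀ p q r : Prop, (r ↔ (p ↔ q)) → sg r = sg p * sg q := by
    intro p q r hr
    by_cases hp : p <;> by_cases hq : q <;> simp [sg, hp, hq, hr]
  have hsg1 : ∀ p : Prop, sg p = 1 ↔ p := by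
    intro p
    by_cases hp : p
    · simp [sg, hp]
    · simp only [sg, hp, if_false, iff_false]
      intro h1
      have := congrArg Units.val h1
      norm_num at this
  have hsginj : ∀ p q : Prop, sg p = sg q → (p ↔ q) := by
    intro p q hpq
    by_cases hp : p
    · rw [(hsg1 p).2 hp] at hpq
      exact ⟨fun _ => (hsg1 q).1 hpq.symm, fun _ => hp⟩
    · refine ⟨fun h => absurd h hp, fun hq => ?_⟩
      rw [(hsg1 q).2 hq] at hpq
      exact (hsg1 p).1 hpq
  have hzp : ∀ x y : G, (x = 1 ∨ x = z) → (y = 1 ∨ y = z) → (x * y = 1 ↔ (x = 1 ↔ y = 1)) := by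
    intro x y hx hy
    have := h.ne_one
    rcases hx with rfl | rfl <;> rcases hy with rfl | hy <;> simp_all [h.sq]
  have hcen : ∀ c : Q, c ∈ center Q ↔ ∀ b ∈ Q, (c : G) * b = b * c := by
    intro c
    rw [mem_center_iff]
    exact ⟨fun h1 b hb => (congrArg Subtype.val (h1 ⟨b, hb⟩)).symm,
      fun h1 b => Subtype.ext (h1 b b.2).symm⟩
  let V := Q ⧸ center Q
  let _ : CommGroup V :=
    { (inferInstance : Group V) with
      mul_comm := by
        intro a b
        obtain ⟨a, rfl⟩ := QuotientGroup.mk_surjective a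
        obtain ⟨b, rfl⟩ := QuotientGroup.mk_surjective b
        rw [← QuotientGroup.mk_mul, ← QuotientGroup.mk_mul, QuotientGroup.eq, hcen]
        intro c hc
        have h1 : (((a * b)⁻¹ * (b * a) : Q) : G) = ⁅(b : G)⁻¹, (a : G)⁻¹⁆ := by
          simp [commutatorElement_def, mul_assoc]
        rw [h1]
        exact (h.zp_comm (h.comm _ (Q.inv_mem b.2) _ (Q.inv_mem a.2)) (h.central c hc)).symm }
  let φ : Q → (Q →* ℂˣ) := fun a => MonoidHom.mk' (fun b => sg (⁅(a : G), (b : G)⁆ = 1)) (by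
    intro b c
    apply hsg
    rw [Subgroup.coe_mul, h.comm_mul_right a.2 b.2 c.2]
    exact hzp _ _ (h.comm _ a.2 _ b.2) (h.comm _ a.2 _ c.2))
  have hφ : ∀ a b : Q, φ a b = sg (⁅(a : G), (b : G)⁆ = 1) := fun _ _ => rfl
  have hφc : ∀ a : Q, ∀ c ∈ center Q, φ a c = 1 := by
    intro a c hc
    rw [hφ, hsg1, commutatorElement_eq_one_iff_mul_comm]
    exact ((hcen c).1 hc a a.2).symm
  let Ψ : Q →* (V →* ℂˣ) := MonoidHom.mk' (fun a => QuotientGroup.lift (center Q) (φ a) (hφc a))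
    (by
      intro a b
      ext c
      simp only [MonoidHom.comp_apply, QuotientGroup.mk'_apply, MonoidHom.mul_apply]
      congr 1
      apply hsg
      rw [Subgroup.coe_mul, h.comm_mul_left a.2 b.2 c.2]
      exact hzp _ _ (h.comm _ a.2 _ c.2) (h.comm _ b.2 _ c.2))
  have hΨ : ∀ a b : Q, Ψ a (QuotientGroup.mk b) = sg (⁅(a : G), (b : G)⁆ = 1) := fun _ _ => rfl
  have hker : Ψ.ker = center Q := by
    ext a
    rw [MonoidHom.mem_ker, hcen]
    constructor
    · intro h1 b hb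
      have := hΨ a ⟨b, hb⟩
      rw [h1, MonoidHom.one_apply, eq_comm, hsg1] at this
      exact commutatorElement_eq_one_iff_mul_comm.1 this
    · intro h1
      ext b
      simp only [MonoidHom.comp_apply, QuotientGroup.mk'_apply, MonoidHom.one_apply]
      rw [hΨ, (hsg1 _).2 (commutatorElement_eq_one_iff_mul_comm.2 (h1 b b.2))]
  have : NeZero (Monoid.exponent V) := ⟨Monoid.exponent_ne_zero_of_finite⟩
  have hcard : Nat.card Ψ.range = Nat.card (V →* ℂˣ) := by
    rw [← Subgroup.index_ker, hker, CommGroup.card_monoidHom_of_hasEnoughRootsOfUnity]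
    rfl
  have hfin : Finite (V →* ℂˣ) := by
    apply Nat.finite_of_card_ne_zero
    rw [CommGroup.card_monoidHom_of_hasEnoughRootsOfUnity]
    exact Nat.card_pos.ne'
  have htop : Ψ.range = ⊤ := eq_top_of_card_eq _ hcard
  let χ : Q →* ℂˣ := MonoidHom.mk' (fun b => sg ((b : G) ∈ M)) (by
    intro b c
    apply hsg
    rw [Subgroup.coe_mul]
    by_cases hb : (b : G) ∈ M <;> by_cases hc : (c : G) ∈ M
    · simp [hb, hc, M.mul_mem hb hc]
    · simp only [hb, hc, iff_false, not_true]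
      exact fun h1 => hc ((M.mul_mem_cancel_left hb).1 h1)
    · simp only [hb, hc, iff_true, iff_false]
      exact fun h1 => hb ((M.mul_mem_cancel_right hc).1 h1)
    · simp [hb, hc, hM _ b.2 _ c.2 hb hc])
  have hχ : ∀ c ∈ center Q, χ c = 1 := by
    intro c hc
    exact (hsg1 _).2 (hZ c c.2 ((hcen c).1 hc))
  obtain ⟨a, ha⟩ : QuotientGroup.lift (center Q) χ hχ ∈ Ψ.range := by rw [htop]; trivial
  refine ⟨a, a.2, fun b hb => ?_⟩
  have h1 := hΨ a ⟨b, hb⟩
  rw [ha] at h1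
  rw [← commutatorElement_eq_one_iff_mul_comm]
  exact (hsginj _ _ h1).symm

/-- The double centralizer lemma. -/
theorem mem_of_comm_centralizer [Finite G] (h : IsXS Q z) {W : Subgroup G} (hWQ : W ≤ Q)
    (hZ : ∀ c ∈ Q, (∀ b ∈ Q, c * b = b * c) → c ∈ W) {x : G} (hx : x ∈ Q)
    (hc : ∀ a ∈ Q, (∀ w ∈ W, a * w = w * a) → a * x = x * a) : x ∈ W := by
  by_contra hxW
  have hsq : ∀ a ∈ Q, a * a ∈ W := fun a ha =>
    hZ _ (Q.mul_mem ha ha) fun b hb => (h.zp_comm (h.sq_mem a ha) (h.central b hb)).symm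
  obtain ⟨M, hWM, -, hxM, hM⟩ := exists_index_two hWQ hsq hxW
  obtain ⟨a, ha, hca⟩ := h.exists_centralizer_eq (fun c hc h1 => hWM (hZ c hc h1)) (hM hx)
  exact hxM ((hca x hx).1 (hc a ha fun w hw => (hca w (hWQ hw)).2 (hWM hw)))

/-- An element acting trivially on `Q / ⟨z⟩` and on the centre of `Q` acts as an inner
automorphism. -/
theorem exists_inner [Finite G] (h : IsXS Q z) {t : G}
    (ht : ∀ q ∈ Q, ⁅t, q⁆ = 1 ∨ ⁅t, q⁆ = z)
    (hZ : ∀ c ∈ Q, (∀ b ∈ Q, c * b = b * c) → t * c = c * t) :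
    ∃ a ∈ Q, ∀ q ∈ Q, a⁻¹ * t * q = q * (a⁻¹ * t) := by
  obtain ⟨a, ha, hca⟩ := h.exists_centralizer_eq (M := centralizer {t})
    (fun c hc h1 => mem_centralizer_singleton_iff.2 (hZ c hc h1).symm) (by
      intro x hx y hy hxM hyM
      rw [mem_centralizer_singleton_iff] at hxM hyM ⊢
      have h1 := (ht x hx).resolve_left
        fun h1 => hxM (commutatorElement_eq_one_iff_mul_comm.1 h1).symm
      have h2 := (ht y hy).resolve_left
        fun h1 => hyM (commutatorElement_eq_one_iff_mul_comm.1 h1).symm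
      symm
      rw [← commutatorElement_eq_one_iff_mul_comm]
      calc ⁅t, x * y⁆ = ⁅t, x⁆ * (x * ⁅t, y⁆) * x⁻¹ := by simp only [commutatorElement_def]; group
        _ = 1 := by rw [h1, h2, h.central x hx, ← mul_assoc, h.sq]; group)
  refine ⟨a, ha, fun q hq => ?_⟩
  have h1 : ⁅t, q⁆ = ⁅a, q⁆ := by
    by_cases h2 : a * q = q * a
    · have h3 := mem_centralizer_singleton_iff.1 ((hca q hq).1 h2)
      rw [commutatorElement_eq_one_iff_mul_comm.2 h2, commutatorElement_eq_one_iff_mul_comm.2 h3.symm]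
    · rw [h.comm_eq_z ha hq h2]
      refine (ht q hq).resolve_left fun h3 => h2 ((hca q hq).2 ?_)
      exact mem_centralizer_singleton_iff.2 (commutatorElement_eq_one_iff_mul_comm.1 h3).symm
  calc a⁻¹ * t * q = a⁻¹ * ⁅t, q⁆ * q * t := by simp only [commutatorElement_def]; group
    _ = _ := by rw [h1]; simp only [commutatorElement_def]; group

/-- An involution normalizing `Q` whose centralizer has index at most two acts trivially on
`Q / ⟨z⟩`. -/
theorem comm_of_index_two (h : IsXS Q z) {t : G} (ht : t ∈ normalizer (Q : Set G))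
    (ht2 : t * t = 1)
    (hM : ∀ x ∈ Q, ∀ y ∈ Q, t * x ≠ x * t → t * y ≠ y * t → t * (x * y) = x * y * t) :
    ∀ q ∈ Q, ⁅t, q⁆ = 1 ∨ ⁅t, q⁆ = z := by
  intro q hq
  by_cases hc : t * q = q * t
  · exact Or.inl (commutatorElement_eq_one_iff_mul_comm.2 hc)
  have htz := h.conj_z ht
  have hti : t⁻¹ = t := inv_eq_of_mul_eq_one_right ht2
  have hq' : t * q * t⁻¹ ∈ Q := conj_mem_of_mem_normalizer ht hq
  have hu : ⁅t, q⁆ ∈ Q := Q.mul_mem hq' (Q.inv_mem hq)
  have huc : t * ⁅t, q⁆ = ⁅t, q⁆ * t := by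
    refine hM _ hq' _ (Q.inv_mem hq) (fun h1 => hc ?_) (fun h1 => hc ?_)
    · calc t * q = t⁻¹ * (t * (t * q * t⁻¹)) * t := by group
        _ = q * t := by rw [h1]; group
    · calc t * q = q * (q⁻¹ * t) * q := by group
        _ = q * t := by rw [← h1]; group
  have hu2 : ⁅t, q⁆ * ⁅t, q⁆ = 1 := by
    calc ⁅t, q⁆ * ⁅t, q⁆ = ⁅t, q⁆ * t * q * t⁻¹ * q⁻¹ := by
          simp only [commutatorElement_def]; group
      _ = t * ⁅t, q⁆ * q * t⁻¹ * q⁻¹ := by rw [huc]
      _ = (t * t) * q * (t * t)⁻¹ * q⁻¹ := by simp only [commutatorElement_def]; group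
      _ = 1 := by rw [ht2]; group
  have hcent : ∀ c ∈ Q, t * c = c * t → ⁅t, q⁆ * c = c * ⁅t, q⁆ := by
    intro c hc' hct
    rw [← commutatorElement_eq_one_iff_mul_comm]
    have h1 : t * c * t⁻¹ = c := by rw [hct]; group
    calc ⁅⁅t, q⁆, c⁆ = ⁅t * q * t⁻¹ * q⁻¹, c⁆ := rfl
      _ = ⁅t * q * t⁻¹, t * c * t⁻¹⁆ * ⁅q⁻¹, c⁆ := by
          rw [h.comm_mul_left hq' (Q.inv_mem hq) hc', h1]
      _ = 1 := by
          rw [h.comm_conj htz hq hc', h.comm_inv_left hq hc', h.zp_sq (h.comm q hq c hc')]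
  have huq : ⁅t, q⁆ * q = q * ⁅t, q⁆ := by
    have h1 : t * (q * q) = q * q * t := h.zp_comm (h.sq_mem q hq) htz
    have h2 : ⁅t, q⁆ * q * (⁅t, q⁆ * q) = q * q := by
      calc ⁅t, q⁆ * q * (⁅t, q⁆ * q) = t * (q * q) * t⁻¹ := by
            simp only [commutatorElement_def]; group
        _ = q * q := by rw [h1]; group
    calc ⁅t, q⁆ * q = ⁅t, q⁆ * (q * q) * q⁻¹ := by group
      _ = (⁅t, q⁆ * ⁅t, q⁆) * q * ⁅t, q⁆ := by rw [← h2]; group
      _ = _ := by rw [hu2, one_mul]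
  refine h.omega _ hu (fun b hb => ?_) hu2
  by_cases hbt : t * b = b * t
  · exact hcent b hb hbt
  · have h1 := hcent _ (Q.mul_mem hq hb) (hM q hq b hb hc hbt)
    calc ⁅t, q⁆ * b = q⁻¹ * (q * ⁅t, q⁆) * b := by group
      _ = q⁻¹ * (⁅t, q⁆ * (q * b)) := by rw [← huq]; group
      _ = b * ⁅t, q⁆ := by rw [h1]; group

end IsXS

end CL.ClsK
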