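import Cfsg.Agent.Base
import Cfsg.Prelude.Def_ClassificationK
import Cfsg.Agent.Sig.CompLayer
import Cfsg.Agent.ClsK.XS

/-!
# `F*(C_G(z))` as a subgroup of `G`; groups of symplectic type
-/

namespace CL.ClsK

open Subgroup Cfsg
open scoped commutatorElement

variable {G : Type*} [Group G]

theorem IsXS.map {G' : Type*} [Group G'] {Q : Subgroup G} {z : G} (h : IsXS Q z) (f : G →* G')
    (hf : Function.Injective f) : IsXS (Q.map f) (f z) where
  mem := mem_map_of_mem f h.mem
  ne_one := fun h1 => h.ne_one (hf (h1.trans (map_one f).symm))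
  sq := by rw [← map_mul, h.sq, map_one]
  central := by
    rintro _ ⟨q, hq, rfl⟩
    rw [← map_mul, ← map_mul, h.central q hq]
  comm := by
    rintro _ ⟨a, ha, rfl⟩ _ ⟨b, hb, rfl⟩
    rw [← map_commutatorElement]
    rcases h.comm a ha b hb with h1 | h1 <;> rw [h1] <;> simp
  sq_mem := by
    rintro _ ⟨a, ha, rfl⟩
    rw [← map_mul]
    rcases h.sq_mem a ha with h1 | h1 <;> rw [h1] <;> simp
  omega := by
    rintro _ ⟨a, ha, rfl⟩ h1 h2
    have h3 : ∀ b ∈ Q, a * b = b * a := fun b hb => by
      have := h1 _ ⟨b, hb, rfl⟩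
      rw [← map_mul, ← map_mul] at this
      exact hf this
    have h4 : a * a = 1 := by
      rw [← map_mul] at h2
      exact hf (h2.trans (map_one _).symm)
    rcases h.omega a ha h3 h4 with h5 | h5 <;> rw [h5] <;> simp

theorem eq_one_or_eq_of_card_eq_two {Z : Subgroup G} (hZ : Nat.card Z = 2) {z : G} (hz : z ∈ Z)
    (hz1 : z ≠ 1) {c : G} (hc : c ∈ Z) : c = 1 ∨ c = z := by
  obtain ⟨y, -, hy⟩ := (Nat.card_eq_two_iff' (1 : Z)).1 hZ
  by_cases h : c = 1
  · exact Or.inl h
  · right
    have h1 := hy ⟨c, hc⟩ fun h' => h (congrArg Subtype.val h')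
    have h2 := hy ⟨z, hz⟩ fun h' => hz1 (congrArg Subtype.val h')
    exact congrArg Subtype.val (h1.trans h2.symm)

/-- If all commutators are central involutions `1` or `z`, squares are central. -/
theorem sq_comm_of_comm {P : Type*} [Group P] {z : P} (hz : z * z = 1) (hc : ∀ q, q * z = z * q)
    (h : ∀ a b : P, ⁅a, b⁆ = 1 ∨ ⁅a, b⁆ = z) (a b : P) : a * a * b = b * (a * a) := by
  rcases h a b with h1 | h1
  · have := commutatorElement_eq_one_iff_mul_comm.1 h1
    rw [mul_assoc, this, ← mul_assoc, this, mul_assoc]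
  · have h2 : a * b = z * b * a := by rw [← h1, commutatorElement_def]; group
    calc a * a * b = a * (a * b) := by group
      _ = (a * z) * (b * a) := by rw [h2]; group
      _ = z * (a * b) * a := by rw [hc a]; group
      _ = (z * z) * (b * (a * a)) := by rw [h2]; group
      _ = _ := by rw [hz, one_mul]

theorem isXS_top_of_extraspecial {P : Type*} [Group P] (h : IsExtraspecial 2 P) {z : P}
    (hz : z ∈ center P) (hz1 : z ≠ 1) :
    IsXS (⊤ : Subgroup P) z ∧ ∀ c ∈ center P, c = 1 ∨ c = z := by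
  obtain ⟨⟨-, -, hcomm⟩, hcard⟩ := h
  have h1 : ∀ c ∈ center P, c = 1 ∨ c = z := fun c hc =>
    eq_one_or_eq_of_card_eq_two hcard hz hz1 hc
  have hz2 : z * z = 1 := by
    rcases h1 _ (mul_mem hz hz) with h2 | h2
    · exact h2
    · exact absurd (by simpa using h2) hz1
  have hc : ∀ q, q * z = z * q := mem_center_iff.1 hz
  have h3 : ∀ a b : P, ⁅a, b⁆ = 1 ∨ ⁅a, b⁆ = z := fun a b =>
    h1 _ (hcomm ▸ commutator_mem_commutator (mem_top a) (mem_top b))
  refine ⟨⟨mem_top _, hz1, hz2, fun q _ => hc q, fun a _ b _ => h3 a b, fun a _ => h1 _ ?_,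
    fun a _ ha _ => h1 _ ?_⟩, h1⟩
  · exact mem_center_iff.2 fun b => (sq_comm_of_comm hz2 hc h3 a b).symm
  · exact mem_center_iff.2 fun b => (ha b (mem_top b)).symm

theorem exists_isXS_of_extraspecial {Q : Subgroup G} (h : IsExtraspecial 2 Q) :
    ∃ z, IsXS Q z ∧ ∀ c ∈ Q, (∀ b ∈ Q, c * b = b * c) → c = 1 ∨ c = z := by
  obtain ⟨z, hz1, -⟩ := (Nat.card_eq_two_iff' (1 : center Q)).1 h.2
  obtain ⟨h1, h2⟩ := isXS_top_of_extraspecial h z.2 (fun h' => hz1 (Subtype.ext h'))
  have h3 := h1.map Q.subtype Q.subtype_injective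
  rw [← MonoidHom.range_eq_map, range_subtype] at h3
  refine ⟨_, h3, fun c hc hcb => ?_⟩
  rcases h2 ⟨c, hc⟩ (mem_center_iff.2 fun b => Subtype.ext (hcb b b.2).symm) with h4 | h4
  · exact Or.inl (congrArg Subtype.val h4)
  · exact Or.inr (congrArg Subtype.val h4)

/-- A finite cyclic subgroup has at most one involution. -/
theorem eq_of_isCyclic_of_sq [Finite G] {A : Subgroup G} (hA : IsCyclic A) {x y : G} (hx : x ∈ A)
    (hy : y ∈ A) (hx2 : x * x = 1) (hy2 : y * y = 1) (hx1 : x ≠ 1) (hy1 : y ≠ 1) : x = y := by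
  classical
  have : Fintype A := Fintype.ofFinite A
  by_contra hne
  have h1 := IsCyclic.card_pow_eq_one_le (α := A) (n := 2) (by norm_num)
  have h2 : ({1, ⟨x, hx⟩, ⟨y, hy⟩} : Finset A) ⊆ Finset.univ.filter (fun a : A => a ^ 2 = 1) := by
    intro a ha
    simp only [Finset.mem_insert, Finset.mem_singleton] at ha
    simp only [Finset.mem_filter, Finset.mem_univ, true_and]
    rcases ha with rfl | rfl | rfl
    · simp
    · exact Subtype.ext (by simpa [sq] using hx2)
    · exact Subtype.ext (by simpa [sq] using hy2)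
  have h3 := Finset.card_le_card h2
  rw [Finset.card_eq_three.2 ⟨_, _, _, ?_, ?_, ?_, rfl⟩] at h3
  · omega
  · exact fun h => hx1 (congrArg Subtype.val h).symm
  · exact fun h => hy1 (congrArg Subtype.val h).symm
  · exact fun h => hne (congrArg Subtype.val h)

/-- In a group of symplectic type with a central involution `z`, every element of square one in a
characteristic abelian subgroup is `1` or `z`. -/
theorem eq_of_symplectic {P : Type*} [Group P] [Finite P] (h : IsOfSymplecticType P) {z : P}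
    (hz : z ∈ center P) (hz1 : z ≠ 1) (hz2 : z * z = 1) (A : Subgroup P) (hA : A.Characteristic)
    (hAc : IsMulCommutative A) {a : P} (ha : a ∈ A) (ha2 : a * a = 1) : a = 1 ∨ a = z := by
  by_cases ha1 : a = 1
  · exact Or.inl ha1
  right
  have hcyc := h.2 A hA hAc
  have hac : a ∈ center P := by
    rw [mem_center_iff]
    intro g
    have h1 : g * a * g⁻¹ = a := by
      refine eq_of_isCyclic_of_sq hcyc (Normal.conj_mem inferInstance a ha g) ha ?_ ha2 ?_ ha1
      · calc g * a * g⁻¹ * (g * a * g⁻¹) = g * (a * a) * g⁻¹ := by group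
          _ = 1 := by rw [ha2]; group
      · intro h1
        exact ha1 (by simpa using h1)
    calc g * a = g * a * g⁻¹ * g := by group
      _ = a * g := by rw [h1]
  exact eq_of_isCyclic_of_sq (h.2 (center P) inferInstance inferInstance) hac hz ha2 hz2 ha1 hz1

/-- In exponent four, a commutator normalized by both entries has square one. -/
theorem comm_sq_eq_one_of_exp_four {P : Type*} [Group P] (h4 : ∀ q : P, q ^ 4 = 1) (q h : P)
    (hq : q * ⁅q, h⁆ * q⁻¹ = ⁅q, h⁆ ∨ q * ⁅q, h⁆ * q⁻¹ = ⁅q, h⁆⁻¹)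
    (hh : h * ⁅q, h⁆ * h⁻¹ = ⁅q, h⁆ ∨ h * ⁅q, h⁆ * h⁻¹ = ⁅q, h⁆⁻¹) : ⁅q, h⁆ * ⁅q, h⁆ = 1 := by
  have h4' : ∀ q : P, q * q * q * q = 1 := fun q => by
    rw [← h4 q]; simp [pow_succ]
  -- the case where `h` centralizes the commutator
  have key : ∀ q h u : P, q * h = u * h * q → (q * u * q⁻¹ = u ∨ q * u * q⁻¹ = u⁻¹) →
      h * u = u * h → u * u = 1 := by
    intro q h u e hq hh
    rcases hq with hq | hq
    · have hq' : q * u = u * q := by
        calc q * u = q * u * q⁻¹ * q := by group
          _ = _ := by rw [hq]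
      have cq : Commute q u := hq'
      have ch : Commute h u := hh
      have e1 : h * q = u⁻¹ * q * h := by
        calc h * q = u⁻¹ * (u * h * q) := by group
          _ = _ := by rw [← e]; group
      have e2 : q * h * (q * h) = u⁻¹ * (q * q) * (h * h) := by
        calc q * h * (q * h) = q * (h * q) * h := by group
          _ = q * u⁻¹ * q * h * h := by rw [e1]; group
          _ = _ := by rw [cq.inv_right.eq]; group
      have e3 : h * (q * q) = (u * u)⁻¹ * (q * q) * h := by
        calc h * (q * q) = (h * q) * q := by group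
          _ = u⁻¹ * q * h * q := by rw [e1]
          _ = u⁻¹ * q * (h * q) := by group
          _ = u⁻¹ * (q * u⁻¹) * q * h := by rw [e1]; group
          _ = _ := by rw [cq.inv_right.eq]; group
      have cuu : Commute h (u * u)⁻¹ := (ch.mul_right ch).inv_right
      have e4 : h * h * (q * q) = (q * q) * (h * h) := by
        calc h * h * (q * q) = h * (h * (q * q)) := by group
          _ = h * (u * u)⁻¹ * (q * q) * h := by rw [e3]; group
          _ = (u * u)⁻¹ * (h * (q * q)) * h := by rw [cuu.eq]; group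
          _ = (u * u * u * u)⁻¹ * (q * q) * (h * h) := by rw [e3]; group
          _ = _ := by rw [h4' u]; group
      have c1 : Commute (q * q) u⁻¹ := (cq.mul_left cq).inv_right
      have c2 : Commute (h * h) u⁻¹ := (ch.mul_left ch).inv_right
      have e5 := h4' (q * h)
      have e6 : q * h * (q * h) * (q * h) * (q * h) = (u * u)⁻¹ := by
        calc q * h * (q * h) * (q * h) * (q * h) = (q * h * (q * h)) * (q * h * (q * h)) := by group
          _ = u⁻¹ * (q * q) * ((h * h) * u⁻¹) * (q * q) * (h * h) := by rw [e2]; group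
          _ = u⁻¹ * ((q * q) * u⁻¹) * ((h * h) * (q * q)) * (h * h) := by rw [c2.eq]; group
          _ = (u * u)⁻¹ * (q * q * q * q) * (h * h * h * h) := by rw [c1.eq, e4]; group
          _ = _ := by rw [h4' q, h4' h]; group
      rw [e6] at e5
      exact inv_eq_one.1 e5
    · have ch : Commute h u := hh
      have e1 : q * h * q⁻¹ = u * h := by rw [e]; group
      have e2 : Commute (q * q) h := by
        have : q * q * h * (q * q)⁻¹ = h := by
          calc q * q * h * (q * q)⁻¹ = q * (q * h * q⁻¹) * q⁻¹ := by group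
            _ = q * (u * h) * q⁻¹ := by rw [e1]
            _ = (q * u * q⁻¹) * (q * h * q⁻¹) := by group
            _ = h := by rw [hq, e1]; group
        show q * q * h = h * (q * q)
        calc q * q * h = q * q * h * (q * q)⁻¹ * (q * q) := by group
          _ = _ := by rw [this]
      have e3 : Commute (q * q) u := by
        have : q * q * u * (q * q)⁻¹ = u := by
          calc q * q * u * (q * q)⁻¹ = q * (q * u * q⁻¹) * q⁻¹ := by group
            _ = q * u⁻¹ * q⁻¹ := by rw [hq]
            _ = (q * u * q⁻¹)⁻¹ := by group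
            _ = u := by rw [hq]; group
        show q * q * u = u * (q * q)
        calc q * q * u = q * q * u * (q * q)⁻¹ * (q * q) := by group
          _ = _ := by rw [this]
      have e4 : q * h * (q * h) = u * (h * h) * (q * q) := by
        calc q * h * (q * h) = (q * h * q⁻¹) * ((q * q) * h) := by group
          _ = _ := by rw [e1, e2.eq]; group
      have c2 : Commute (h * h) u := ch.mul_left ch
      have c3 : Commute (q * q) (h * h) := e2.mul_right e2
      have e5 := h4' (q * h)
      have e6 : q * h * (q * h) * (q * h) * (q * h) = u * u := by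
        calc q * h * (q * h) * (q * h) * (q * h) = (q * h * (q * h)) * (q * h * (q * h)) := by group
          _ = u * (h * h) * ((q * q) * u) * (h * h) * (q * q) := by rw [e4]; group
          _ = u * ((h * h) * u) * ((q * q) * (h * h)) * (q * q) := by rw [e3.eq]; group
          _ = (u * u) * (h * h * h * h) * (q * q * q * q) := by rw [c2.eq, c3.eq]; group
          _ = _ := by rw [h4' q, h4' h]; group
      rw [← e6, e5]
  set u := ⁅q, h⁆ with hu
  have e : q * h = u * h * q := by rw [hu, commutatorElement_def]; group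
  have hcm : ∀ x v : P, x * v * x⁻¹ = v → x * v = v * x := fun x v hx => by
    calc x * v = x * v * x⁻¹ * x := by group
      _ = _ := by rw [hx]
  rcases hh with hh | hh
  · exact key q h u e hq (hcm _ _ hh)
  · have hinv : u⁻¹ * u⁻¹ = 1 → u * u = 1 := fun h1 => by
      rw [← mul_inv_rev, inv_eq_one] at h1; exact h1
    have hh' : h * u⁻¹ * h⁻¹ = u⁻¹⁻¹ := by
      calc h * u⁻¹ * h⁻¹ = (h * u * h⁻¹)⁻¹ := by group
        _ = _ := by rw [hh]
    rcases hq with hq | hq
    · refine hinv (key h q u⁻¹ (by rw [mul_assoc, e]; group) (Or.inr hh') ?_)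
      exact (show Commute q u from hcm _ _ hq).inv_right.eq
    · refine hinv (key h (q * h) u⁻¹ (by
        calc h * (q * h) = u⁻¹ * (u * h * q) * h := by group
          _ = _ := by rw [← e]) (Or.inr hh') ?_)
      apply hcm
      calc q * h * u⁻¹ * (q * h)⁻¹ = q * (h * u⁻¹ * h⁻¹) * q⁻¹ := by group
        _ = u⁻¹ := by rw [hh', inv_inv, hq]

/-- A 2-group of symplectic type and exponent four is extraspecial-like. -/
theorem isXS_top_of_symplectic {P : Type*} [Group P] [Finite P] (h : IsOfSymplecticType P)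
    (h4 : ∀ q : P, q ^ 4 = 1) {z : P} (hz : z ∈ center P) (hz1 : z ≠ 1) (hz2 : z * z = 1) :
    IsXS (⊤ : Subgroup P) z := by
  have : Fact (Nat.Prime 2) := ⟨Nat.prime_two⟩
  have hzc : ∀ q, q * z = z * q := mem_center_iff.1 hz
  have hzi : z⁻¹ = z := inv_eq_of_mul_eq_one_right hz2
  have h4' : ∀ q : P, q * q * (q * q) = 1 := fun q => by
    rw [← h4 q]; simp [pow_succ, mul_assoc]
  have homega := eq_of_symplectic h hz hz1 hz2
  have hZ : ∀ c ∈ center P, c * c = 1 → c = 1 ∨ c = z := fun c hc h2 =>
    homega (center P) inferInstance inferInstance hc h2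
  have zmul : ∀ x y : P, (x = 1 ∨ x = z) → (y = 1 ∨ y = z) → x * y = 1 ∨ x * y = z := by
    intro x y hx hy
    rcases hx with rfl | rfl <;> rcases hy with rfl | hy <;> simp_all
  have zcomm : ∀ x g : P, (x = 1 ∨ x = z) → g * x = x * g := by
    rintro x g (rfl | rfl)
    · simp
    · exact hzc g
  have zinv : ∀ x : P, (x = 1 ∨ x = z) → x⁻¹ = x := by
    rintro x (rfl | rfl)
    · simp
    · exact hzi
  let B : Subgroup P :=
    { carrier := {b | ∀ q, ⁅q, b⁆ = 1 ∨ ⁅q, b⁆ = z}
      one_mem' := fun q => Or.inl (commutatorElement_one_right q)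
      mul_mem' := by
        intro a b ha hb q
        have : ⁅q, a * b⁆ = ⁅q, a⁆ * (a * ⁅q, b⁆) * a⁻¹ := by
          simp only [commutatorElement_def]; group
        rw [this, zcomm _ a (hb q), ← mul_assoc, mul_inv_cancel_right]
        exact zmul _ _ (ha q) (hb q)
      inv_mem' := by
        intro a ha q
        have : ⁅q, a⁻¹⁆ = a⁻¹ * ⁅q, a⁆⁻¹ * a := by
          simp only [commutatorElement_def]; group
        rw [this, zinv _ (ha q), zcomm _ _ (ha q), inv_mul_cancel_right]
        exact ha q }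
  have hBmem : ∀ b, b ∈ B ↔ ∀ q, ⁅q, b⁆ = 1 ∨ ⁅q, b⁆ = z := fun _ => Iff.rfl
  have hfix : ∀ φ : P ≃* P, φ z = z := by
    intro φ
    refine (hZ _ ?_ (by rw [← map_mul, hz2, map_one])).resolve_left (by simpa using hz1)
    rw [mem_center_iff]
    intro g
    obtain ⟨g, rfl⟩ := φ.surjective g
    rw [← map_mul, ← map_mul, hzc]
  have hBchar : B.Characteristic := by
    rw [characteristic_iff_le_comap]
    intro φ b hb
    rw [mem_comap, hBmem]
    intro q
    obtain ⟨q, rfl⟩ := φ.surjective q
    have : ⁅φ q, φ.toMonoidHom b⁆ = φ ⁅q, b⁆ := by simp [commutatorElement_def]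
    rw [this]
    rcases hb q with h1 | h1 <;> rw [h1]
    · exact Or.inl (map_one φ)
    · exact Or.inr (hfix φ)
  have hcB : ∀ b ∈ B, ∀ c ∈ commutator P, c * b = b * c := by
    intro b hb c hc
    let f : P →* P := MonoidHom.mk' (fun q => ⁅q, b⁆) (by
      intro x y
      have : ⁅x * y, b⁆ = x * ⁅y, b⁆ * x⁻¹ * ⁅x, b⁆ := by
        simp only [commutatorElement_def]; group
      rw [this, zcomm _ x (hb y), mul_inv_cancel_right, zcomm _ _ (hb x)])
    have : commutator P ≤ f.ker := by
      rw [_root_.commutator_def, commutator_le]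
      intro x _ y _
      rw [MonoidHom.mem_ker, map_commutatorElement, commutatorElement_eq_one_iff_mul_comm]
      exact zcomm _ _ (hb y)
    exact commutatorElement_eq_one_iff_mul_comm.1 (this hc)
  let A : Subgroup P := commutator P ⊓ B
  have hAchar : A.Characteristic := by
    rw [characteristic_iff_le_comap]
    intro φ a ha
    exact ⟨(characteristic_iff_le_comap.1 inferInstance) φ ha.1,
      (characteristic_iff_le_comap.1 hBchar) φ ha.2⟩
  have hAc : IsMulCommutative A :=
    isMulCommutative_of_comm fun a ha b hb => hcB b hb.2 a ha.1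
  have hBtop : B = ⊤ := by
    by_contra hne
    have hnt : Nontrivial (P ⧸ B) := by
      rw [QuotientGroup.nontrivial_iff]; exact hne
    have := (h.1.to_quotient B).center_nontrivial
    obtain ⟨⟨c, hc⟩, hc1⟩ := exists_ne (1 : center (P ⧸ B))
    obtain ⟨x, rfl⟩ := QuotientGroup.mk_surjective c
    apply hc1
    apply Subtype.ext
    show (x : P ⧸ B) = 1
    rw [QuotientGroup.eq_one_iff, hBmem]
    intro q
    have hu : ⁅q, x⁆ ∈ A := by
      refine ⟨commutator_mem_commutator (mem_top _) (mem_top _), ?_⟩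
      have : ((⁅q, x⁆ : P) : P ⧸ B) = 1 := by
        have h1 := map_commutatorElement (QuotientGroup.mk' B) q x
        rw [QuotientGroup.mk'_apply] at h1
        rw [h1, commutatorElement_eq_one_iff_mul_comm]
        exact mem_center_iff.1 hc _
      exact (QuotientGroup.eq_one_iff _).1 this
    refine homega A hAchar hAc hu ?_
    rcases homega A hAchar hAc (A.mul_mem hu hu) (h4' _) with h1 | h1
    · exact h1
    have hconj : ∀ g, g * ⁅q, x⁆ * g⁻¹ = ⁅q, x⁆ ∨ g * ⁅q, x⁆ * g⁻¹ = ⁅q, x⁆⁻¹ := by
      intro g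
      have e : g * ⁅q, x⁆ * g⁻¹ = ⁅g, ⁅q, x⁆⁆ * ⁅q, x⁆ := by
        rw [commutatorElement_def g]; group
      rw [e]
      rcases hu.2 g with h2 | h2 <;> rw [h2]
      · exact Or.inl (one_mul _)
      · right
        rw [eq_inv_iff_mul_eq_one, mul_assoc, h1, hz2]
    exact comm_sq_eq_one_of_exp_four h4 q x (hconj q) (hconj x)
  have h3 : ∀ a b : P, ⁅a, b⁆ = 1 ∨ ⁅a, b⁆ = z := fun a b =>
    (hBmem b).1 (hBtop ▸ mem_top b) a
  refine ⟨mem_top _, hz1, hz2, fun q _ => hzc q, fun a _ b _ => h3 a b, fun a _ => hZ _ ?_ (h4' a),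
    fun a _ ha => hZ _ ?_⟩
  · exact mem_center_iff.2 fun b => (sq_comm_of_comm hz2 hzc h3 a b).symm
  · exact mem_center_iff.2 fun b => (ha b (mem_top b)).symm

/-! ### The generalized Fitting subgroup of a subgroup, inside the ambient group -/

/-- `F*(H)` as a subgroup of `G`. -/
abbrev fstarOf (H : Subgroup G) : Subgroup G := (generalizedFittingSubgroup H).map H.subtype

theorem fstarOf_le (H : Subgroup G) : fstarOf H ≤ H := map_subtype_le _

theorem le_normalizer_fstarOf (H : Subgroup G) : H ≤ normalizer (fstarOf H : Set G) := by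
  rw [le_normalizer_iff]
  rintro h hh _ ⟨k, hk, rfl⟩
  exact ⟨_, (CL.Sig.genFitting_normal (G := H)).conj_mem k hk ⟨h, hh⟩, rfl⟩

theorem mem_fstarOf_of_comm [Finite G] {H : Subgroup G} {x : G} (hx : x ∈ H)
    (h : ∀ q ∈ fstarOf H, x * q = q * x) : x ∈ fstarOf H := by
  refine ⟨⟨x, hx⟩, CL.Sig.centralizer_genFitting_le ?_, rfl⟩
  intro q hq
  exact Subtype.ext (h _ ⟨q, hq, rfl⟩).symm

theorem le_fstarOf_of_isPGroup [Finite G] {p : ℕ} [Fact p.Prime] {H K : Subgroup G} (hKH : K ≤ H)
    (hn : H ≤ normalizer (K : Set G)) (hK : IsPGroup p K) : K ≤ fstarOf H := by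
  have h1 : (K.subgroupOf H).Normal := normal_subgroupOf_of_le_normalizer hn
  have h2 : IsPGroup p (K.subgroupOf H) := hK.of_equiv (subgroupOfEquivOfLe hKH).symm
  have h3 := (CL.Sig.le_fitting h1 h2.isNilpotent).trans CL.Sig.fitting_le_genFitting
  intro k hk
  exact ⟨⟨k, hKH hk⟩, h3 hk, rfl⟩

theorem self_mem_fstarOf_centralizer (z : G) : z ∈ fstarOf (centralizer ({z} : Set G)) := by
  refine ⟨⟨z, mem_centralizer_singleton_iff.2 rfl⟩,
    (CL.Sig.center_le_fitting.trans CL.Sig.fitting_le_genFitting) ?_, rfl⟩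
  rw [mem_center_iff]
  intro g
  exact Subtype.ext (mem_centralizer_singleton_iff.1 g.2)

end CL.ClsK
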