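import Cfsg.Agent.Base
import Cfsg.Agent.ClsK.Large

/-!
# Large extraspecial-like subgroups
-/

namespace CL.ClsK

open Subgroup Cfsg
open scoped commutatorElement

variable {G : Type*} [Group G]

/-- `Q` is extraspecial-like with central involution `z`, normalized by `C(z)`, and contains every
element of `C(z)` acting trivially on `Q / ⟨z⟩`. -/
structure IsLarge (Q : Subgroup G) (z : G) : Prop where
  xs : IsXS Q z
  norm : ∀ c : G, c * z = z * c → c ∈ normalizer (Q : Set G)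
  mem : ∀ c : G, c * z = z * c → (∀ q ∈ Q, ⁅c, q⁆ = 1 ∨ ⁅c, q⁆ = z) → c ∈ Q

theorem IsLarge.cj {Q : Subgroup G} {z : G} (h : IsLarge Q z) (g : G) :
    IsLarge (cj g Q) (g * z * g⁻¹) where
  xs := h.xs.cj g
  norm := by
    intro c hc
    rw [← cj_normalizer, mem_cj]
    apply h.norm
    calc g⁻¹ * c * g * z = g⁻¹ * (c * (g * z * g⁻¹)) * g := by group
      _ = _ := by rw [hc]; group
  mem := by
    intro c hc h1
    rw [mem_cj]
    apply h.mem
    · calc g⁻¹ * c * g * z = g⁻¹ * (c * (g * z * g⁻¹)) * g := by group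
        _ = _ := by rw [hc]; group
    · intro q hq
      have e : ⁅g⁻¹ * c * g, q⁆ = g⁻¹ * ⁅c, g * q * g⁻¹⁆ * g := by
        simp only [commutatorElement_def]; group
      rw [e]
      rcases h1 _ (conj_mem_cj hq) with h2 | h2 <;> rw [h2]
      · left; group
      · right; group

theorem isLarge_fstarOf [Finite G] {z : G} (h : IsXS (fstarOf (centralizer ({z} : Set G))) z) :
    IsLarge (fstarOf (centralizer ({z} : Set G))) z := by
  have : Fact (Nat.Prime 2) := ⟨Nat.prime_two⟩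
  set Q := fstarOf (centralizer ({z} : Set G)) with hQ
  have hn : ∀ c : G, c * z = z * c → c ∈ normalizer (Q : Set G) := fun c hc =>
    le_normalizer_fstarOf _ (mem_centralizer_singleton_iff.2 hc)
  refine ⟨h, hn, ?_⟩
  let K : Subgroup G :=
    { carrier := {c | c * z = z * c ∧ ∀ q ∈ Q, ⁅c, q⁆ = 1 ∨ ⁅c, q⁆ = z}
      one_mem' := ⟨by simp, fun q _ => Or.inl (commutatorElement_one_left q)⟩
      mul_mem' := by
        rintro a b ⟨ha, ha'⟩ ⟨hb, hb'⟩
        refine ⟨(show Commute a z from ha).mul_left hb, fun q hq => ?_⟩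
        have e : ⁅a * b, q⁆ = a * ⁅b, q⁆ * a⁻¹ * ⁅a, q⁆ := by
          simp only [commutatorElement_def]; group
        rw [e, h.zp_comm (hb' q hq) ha, mul_inv_cancel_right]
        exact h.zp_mul (hb' q hq) (ha' q hq)
      inv_mem' := by
        rintro a ⟨ha, ha'⟩
        have ha2 : a⁻¹ * z = z * a⁻¹ := (show Commute a z from ha).inv_left
        refine ⟨ha2, fun q hq => ?_⟩
        have e : ⁅a⁻¹, q⁆ = a⁻¹ * ⁅a, q⁆⁻¹ * a := by
          simp only [commutatorElement_def]; group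
        rw [e, h.zp_inv (ha' q hq), h.zp_comm (ha' q hq) ha2, inv_mul_cancel_right]
        exact ha' q hq }
  have hK : K ≤ Q := by
    refine le_fstarOf_of_isPGroup (p := 2) (fun c hc => mem_centralizer_singleton_iff.2 hc.1) ?_ ?_
    · rw [le_normalizer_iff]
      rintro g hg c ⟨hc, hc'⟩
      have hg' : Commute g z := mem_centralizer_singleton_iff.1 hg
      refine ⟨((hg'.mul_left hc).mul_left hg'.inv_left).eq, fun q hq => ?_⟩
      have e : ⁅g * c * g⁻¹, q⁆ = g * ⁅c, g⁻¹ * q * g⁆ * g⁻¹ := by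
        simp only [commutatorElement_def]; group
      have h1 := hc' _ (conj_inv_mem_of_mem_normalizer (hn g hg') hq)
      rw [e, h.zp_comm h1 hg', mul_inv_cancel_right]
      exact h1
    · rintro ⟨c, hc, hc'⟩
      have h1 : c * c ∈ Q := by
        refine mem_fstarOf_of_comm
          (mem_centralizer_singleton_iff.2 ((show Commute c z from hc).mul_left hc)) ?_
        intro q hq
        rw [← commutatorElement_eq_one_iff_mul_comm]
        have e : ⁅c * c, q⁆ = c * ⁅c, q⁆ * c⁻¹ * ⁅c, q⁆ := by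
          simp only [commutatorElement_def]; group
        rw [e, h.zp_comm (hc' q hq) hc, mul_inv_cancel_right, h.zp_sq (hc' q hq)]
      refine ⟨3, Subtype.ext ?_⟩
      have e : c ^ 2 ^ 3 = (c * c * (c * c)) * (c * c * (c * c)) := by
        norm_num [pow_succ, mul_assoc]
      show c ^ 2 ^ 3 = 1
      rw [e, h.zp_sq (h.sq_mem _ h1)]
  exact fun c hc h1 => hK ⟨hc, h1⟩

theorem isXS_fstarOf_of_top {z : G}
    (h : ∀ z₀ : generalizedFittingSubgroup (centralizer ({z} : Set G)), z₀ ∈ center _ →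
      ((z₀ : centralizer ({z} : Set G)) : G) = z → IsXS ⊤ z₀) :
    IsXS (fstarOf (centralizer ({z} : Set G))) z := by
  obtain ⟨z₁, hz₁, hz⟩ := self_mem_fstarOf_centralizer z
  have h1 := (h ⟨z₁, hz₁⟩ ?_ hz).map ((centralizer ({z} : Set G)).subtype.comp (Subgroup.subtype _))
    ((centralizer ({z} : Set G)).subtype_injective.comp (Subgroup.subtype_injective _))
  · rw [← map_map, ← MonoidHom.range_eq_map, range_subtype] at h1
    have h2 : ((centralizer ({z} : Set G)).subtype.comp (Subgroup.subtype _))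
      (⟨z₁, hz₁⟩ : generalizedFittingSubgroup (centralizer ({z} : Set G))) = z := hz
    rwa [h2] at h1
  · rw [mem_center_iff]
    intro g
    apply Subtype.ext; apply Subtype.ext
    have h2 : (z₁ : G) = z := hz
    show ((g : centralizer ({z} : Set G)) : G) * z₁ = z₁ * ((g : centralizer ({z} : Set G)) : G)
    rw [h2]
    exact mem_centralizer_singleton_iff.1 (g : centralizer ({z} : Set G)).2

theorem isXS_fstarOf_of_symplectic [Finite G] {z : G} (hz : orderOf z = 2)
    (hQ : IsOfSymplecticType (generalizedFittingSubgroup (centralizer ({z} : Set G))))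
    (h4 : ∀ q ∈ fstarOf (centralizer ({z} : Set G)), q ^ 4 = 1) :
    IsXS (fstarOf (centralizer ({z} : Set G))) z := by
  refine isXS_fstarOf_of_top fun z₀ hc h0 => isXS_top_of_symplectic hQ (fun q => ?_) hc ?_ ?_
  · apply Subtype.ext; apply Subtype.ext
    simpa using h4 _ ⟨q, q.2, rfl⟩
  · rintro rfl
    rw [← h0] at hz; simp at hz
  · apply Subtype.ext; apply Subtype.ext
    show ((z₀ : centralizer ({z} : Set G)) : G) * ((z₀ : centralizer ({z} : Set G)) : G) = 1
    rw [h0, ← sq, ← hz, pow_orderOf_eq_one]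

theorem isXS_fstarOf_of_extraspecial {z : G} (hz : orderOf z = 2)
    (hQ : IsExtraspecial 2 (generalizedFittingSubgroup (centralizer ({z} : Set G)))) :
    IsXS (fstarOf (centralizer ({z} : Set G))) z ∧
      ∀ c ∈ fstarOf (centralizer ({z} : Set G)),
        (∀ b ∈ fstarOf (centralizer ({z} : Set G)), c * b = b * c) → c = 1 ∨ c = z := by
  have h1 : IsXS (fstarOf (centralizer ({z} : Set G))) z := by
    refine isXS_fstarOf_of_top fun z₀ hc h0 => (isXS_top_of_extraspecial hQ hc ?_).1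
    rintro rfl
    rw [← h0] at hz; simp at hz
  refine ⟨h1, ?_⟩
  rintro _ ⟨c, hc, rfl⟩ hcb
  refine h1.omega _ ⟨c, hc, rfl⟩ hcb ?_
  have h2 : (⟨c, hc⟩ : generalizedFittingSubgroup (centralizer ({z} : Set G))) ∈ center _ := by
    rw [mem_center_iff]
    intro g
    apply Subtype.ext; apply Subtype.ext
    exact (hcb _ ⟨g, g.2, rfl⟩).symm
  have h3 := pow_card_eq_one' (G := center (generalizedFittingSubgroup (centralizer ({z} : Set G))))
    (x := ⟨_, h2⟩)
  rw [hQ.2, sq] at h3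
  exact congrArg (fun x : center (generalizedFittingSubgroup (centralizer ({z} : Set G))) =>
    (((x : generalizedFittingSubgroup (centralizer ({z} : Set G))) :
      centralizer ({z} : Set G)) : G)) h3

/-- Symmetry for large extraspecial-like subgroups. -/
theorem IsLarge.mem_cj_of_conj_mem [Finite G] {Q : Subgroup G} {z : G} (hQ : IsLarge Q z) {g : G}
    (hne : g * z * g⁻¹ ≠ z) (hin : g * z * g⁻¹ ∈ Q) : z ∈ ClsK.cj g Q := by
  have hP := hQ.cj g
  set P := ClsK.cj g Q with hPdef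
  set z' := g * z * g⁻¹ with hz'
  have h := hQ.xs
  have h' := hP.xs
  by_contra hzP
  have hzz : z * z' = z' * z := (h.central _ hin).symm
  have hzN : z ∈ normalizer (P : Set G) := hP.norm z hzz
  obtain ⟨q₀, hq₀, hq₀c⟩ : ∃ q₀ ∈ Q, z' * q₀ ≠ q₀ * z' := by
    by_contra h1
    push Not at h1
    rcases h.omega _ hin h1 h'.sq with h2 | h2
    · exact h'.ne_one h2
    · exact hne h2
  have hq₀z : q₀ * z' * q₀⁻¹ = z * z' := h.conj_eq_mul_z hq₀ hin (Ne.symm hq₀c)
  -- elements of `P` centralizing `z` modulo `z'` centralize `z`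
  have hF₁ : ∀ p ∈ P, (⁅z, p⁆ = 1 ∨ ⁅z, p⁆ = z') → z * p = p * z := by
    intro p hp h1
    rcases h1 with h1 | h1
    · exact commutatorElement_eq_one_iff_mul_comm.1 h1
    exfalso
    have e1 : p * z * p⁻¹ = z * z' := by
      rw [← h1, commutatorElement_def, h.inv_z]
      calc p * z * p⁻¹ = (z * z) * p * z * p⁻¹ := by rw [h.sq]; group
        _ = _ := by simp only [mul_assoc]
    have e2 : p * z' * p⁻¹ = z' := by rw [h'.central p hp]; group
    have e3 : q₀ * z * q₀⁻¹ = z := by rw [h.central q₀ hq₀]; group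
    have e4 : q₀ * (z * z') * q₀⁻¹ = z' := by
      calc q₀ * (z * z') * q₀⁻¹ = (q₀ * z * q₀⁻¹) * (q₀ * z' * q₀⁻¹) := by group
        _ = z' := by rw [e3, hq₀z, ← mul_assoc, h.sq, one_mul]
    have e5 : p * (z * z') * p⁻¹ = z := by
      calc p * (z * z') * p⁻¹ = (p * z * p⁻¹) * (p * z' * p⁻¹) := by group
        _ = z := by rw [e1, e2, mul_assoc, h'.sq, mul_one]
    have e6 : (p * q₀ * p) * z * (p * q₀ * p)⁻¹ = z' := by
      calc (p * q₀ * p) * z * (p * q₀ * p)⁻¹ = p * (q₀ * (p * z * p⁻¹) * q₀⁻¹) * p⁻¹ := by group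
        _ = z' := by rw [e1, e4, e2]
    have e7 : (p * q₀ * p) * z' * (p * q₀ * p)⁻¹ = z := by
      calc (p * q₀ * p) * z' * (p * q₀ * p)⁻¹ = p * (q₀ * (p * z' * p⁻¹) * q₀⁻¹) * p⁻¹ := by group
        _ = z := by rw [e2, hq₀z, e5]
    set x := p * q₀ * p with hx
    have e8 : g⁻¹ * x ∈ normalizer (Q : Set G) := by
      apply hQ.norm
      calc g⁻¹ * x * z = g⁻¹ * (x * z * x⁻¹) * x := by group
        _ = z * (g⁻¹ * x) := by rw [e6, hz']; group
    apply hzP
    rw [hPdef, mem_cj]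
    have := conj_mem_of_mem_normalizer e8 hin
    have e9 : g⁻¹ * x * z' * (g⁻¹ * x)⁻¹ = g⁻¹ * z * g := by
      calc g⁻¹ * x * z' * (g⁻¹ * x)⁻¹ = g⁻¹ * (x * z' * x⁻¹) * g := by group
        _ = _ := by rw [e7]
    rwa [e9] at this
  have hu : ∀ p ∈ P, ⁅z, p⁆ ∈ P := fun p hp =>
    P.mul_mem (conj_mem_of_mem_normalizer hzN hp) (P.inv_mem hp)
  have huinv : ∀ p : G, z * ⁅z, p⁆ * z⁻¹ = ⁅z, p⁆⁻¹ := by
    intro p
    calc z * ⁅z, p⁆ * z⁻¹ = (z * z) * p * z⁻¹ * p⁻¹ * z⁻¹ := by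
          simp only [commutatorElement_def]; group
      _ = p * (z * (z * z)⁻¹) * p⁻¹ * z⁻¹ := by rw [h.sq]; simp [h.inv_z]
      _ = _ := by rw [h.sq]; simp only [commutatorElement_def]; group
  have huF : ∀ p ∈ P, z * ⁅z, p⁆ = ⁅z, p⁆ * z := by
    intro p hp
    apply hF₁ _ (hu p hp)
    have e : ⁅z, ⁅z, p⁆⁆ = ⁅z, p⁆⁻¹ * ⁅z, p⁆⁻¹ := by rw [commutatorElement_def z, huinv]
    rw [e]
    exact h'.sq_mem _ (P.inv_mem (hu p hp))
  have hu2 : ∀ p ∈ P, ⁅z, p⁆ * ⁅z, p⁆ = 1 := by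
    intro p hp
    have h1 := huinv p
    rw [huF p hp, mul_inv_cancel_right] at h1
    nth_rewrite 1 [h1]
    exact inv_mul_cancel _
  -- it suffices to show that `z` acts trivially on `P / ⟨z'⟩`
  suffices hfin : ∀ p ∈ P, ⁅z, p⁆ = 1 ∨ ⁅z, p⁆ = z' from hzP (hP.mem z hzz hfin)
  have hI : ∀ x ∈ Q, x ∈ P → x = 1 ∨ x = z' := by
    have hI0 : ∀ x ∈ Q, x ∈ P → (∀ b ∈ Q, x * b = b * x) → x = 1 := by
      intro x hx hxP hc
      refine (h.omega x hx hc ?_).resolve_right fun h1 => hzP (h1 ▸ hxP)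
      exact (h.sq_mem x hx).resolve_right fun h1 => hzP (h1 ▸ P.mul_mem hxP hxP)
    intro x hx hxP
    have hD : ∀ d ∈ Q, d * z' = z' * d → x * d = d * x := by
      intro d hd hdz
      rw [← commutatorElement_eq_one_iff_mul_comm]
      refine (h.comm x hx d hd).resolve_right fun h1 => hzP ?_
      rw [← h1, commutatorElement_def, mul_assoc, mul_assoc, ← mul_assoc d]
      exact P.mul_mem hxP (conj_mem_of_mem_normalizer (hP.norm d hdz) (P.inv_mem hxP))
    have hsplit : ∀ y ∈ Q, y * q₀ = q₀ * y → (∀ d ∈ Q, d * z' = z' * d → y * d = d * y) →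
        ∀ b ∈ Q, y * b = b * y := by
      intro y _ hy0 hyD b hb
      by_cases hbz : z' * b = b * z'
      · exact hyD b hb hbz.symm
      · have h1 := hyD _ (Q.mul_mem hq₀ hb) (h.comm_mul_of_not_comm hin hq₀ hb hq₀c hbz).symm
        calc y * b = q₀⁻¹ * (q₀ * y) * b := by group
          _ = q₀⁻¹ * (y * (q₀ * b)) := by rw [← hy0]; group
          _ = b * y := by rw [h1]; group
    by_cases hx0 : x * q₀ = q₀ * x
    · exact Or.inl (hI0 x hx hxP (hsplit x hx hx0 hD))
    · right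
      have h1 : x * z' = 1 := by
        refine hI0 _ (Q.mul_mem hx hin) (P.mul_mem hxP h'.mem)
          (hsplit _ (Q.mul_mem hx hin) ?_ fun d hd hdz => ?_)
        · exact (h.comm_mul_of_not_comm hq₀ hx hin (Ne.symm hx0) (Ne.symm hq₀c)).symm
        · rw [mul_assoc, ← hdz, ← mul_assoc, hD d hd hdz, mul_assoc]
      rw [eq_inv_of_mul_eq_one_left h1, h'.inv_z]
  have hDF : ∀ d ∈ Q, d * z' = z' * d → ∀ f ∈ P, z * f = f * z → ⁅d, f⁆ = 1 ∨ ⁅d, f⁆ = z' := by
    intro d hd hdz f hf hfz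
    refine hI _ ?_ ?_
    · rw [commutatorElement_def, mul_assoc, mul_assoc, ← mul_assoc f]
      exact Q.mul_mem hd (conj_mem_of_mem_normalizer (hQ.norm f hfz.symm) (Q.inv_mem hd))
    · exact P.mul_mem (conj_mem_of_mem_normalizer (hP.norm d hdz) hf) (P.inv_mem hf)
  have hZF : ∀ c ∈ P, (∀ b ∈ P, c * b = b * c) → z * c = c * z := by
    intro c hc hcb
    apply hF₁ c hc
    refine h'.omega _ (hu c hc) (fun b hb => ?_) (hu2 c hc)
    have h1 := hcb _ (conj_inv_mem_of_mem_normalizer hzN hb)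
    have h2 : c⁻¹ * b = b * c⁻¹ := (show Commute c b from hcb b hb).inv_left
    calc ⁅z, c⁆ * b = z * c * z⁻¹ * (c⁻¹ * b) := by rw [commutatorElement_def]; group
      _ = z * (c * (z⁻¹ * b * z)) * z⁻¹ * c⁻¹ := by rw [h2]; group
      _ = _ := by rw [h1, commutatorElement_def]; group
  -- `C_P(F) ≤ F`
  have hCF : ∀ x ∈ P, (∀ f ∈ P, z * f = f * z → x * f = f * x) → z * x = x * z := by
    intro x hx hxF
    have := h'.mem_of_comm_centralizer (W := P ⊓ centralizer {z}) inf_le_left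
      (fun c hc hcb => ⟨hc, mem_centralizer_singleton_iff.2 (hZF c hc hcb).symm⟩) hx ?_
    · exact (mem_centralizer_singleton_iff.1 this.2).symm
    intro a ha haW
    refine (hxF a ha (hF₁ a ha (h'.omega _ (hu a ha) (fun p hp => ?_) (hu2 a ha)))).symm
    have h1 : ⁅a, ⁅z, p⁆⁆ = 1 := commutatorElement_eq_one_iff_mul_comm.2
      (haW _ ⟨hu p hp, mem_centralizer_singleton_iff.2 (huF p hp).symm⟩)
    have hp' := conj_mem_of_mem_normalizer hzN hp
    have ha' := conj_mem_of_mem_normalizer hzN ha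
    rw [commutatorElement_def z, h'.comm_mul_right ha hp' (P.inv_mem hp), h'.comm_inv_right ha hp,
      ← h'.comm_conj hzz ha hp'] at h1
    have e : z * (z * p * z⁻¹) * z⁻¹ = p := by
      calc z * (z * p * z⁻¹) * z⁻¹ = (z * z) * p * (z * z)⁻¹ := by group
        _ = p := by rw [h.sq]; group
    rw [e] at h1
    rw [← commutatorElement_eq_one_iff_mul_comm, commutatorElement_def z,
      h'.comm_mul_left ha' (P.inv_mem ha) hp, h'.comm_inv_left ha hp, h1]
  by_cases hd : ∃ d ∈ Q, d * z' = z' * d ∧ d * d ≠ 1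
  · obtain ⟨d, hd, hdz, hd2⟩ := hd
    have hdd : d * d = z := (h.sq_mem d hd).resolve_left hd2
    have hdN := hP.norm d hdz
    intro p hp
    have hp' := conj_mem_of_mem_normalizer hdN hp
    have hv : ⁅d, p⁆ ∈ P := P.mul_mem hp' (P.inv_mem hp)
    have hvF : z * ⁅d, p⁆ = ⁅d, p⁆ * z := by
      refine hCF _ hv fun f hf hfz => ?_
      have h1 := hDF d hd hdz f hf hfz
      have hf' := conj_mem_of_mem_normalizer hdN hf
      have e : f = ⁅d, f⁆⁻¹ * (d * f * d⁻¹) := by rw [commutatorElement_def]; group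
      rw [← commutatorElement_eq_one_iff_mul_comm, commutatorElement_def d,
        h'.comm_mul_left hp' (P.inv_mem hp) hf, h'.comm_inv_left hp hf]
      nth_rewrite 1 [e]
      rw [h'.zp_inv h1, h'.comm_mul_right hp' (h'.zp_mem h1) hf', h'.comm_zp_right h1 hp',
        h'.comm_conj hdz hp hf, one_mul, h'.zp_sq (h'.comm p hp f hf)]
    have e : ⁅z, p⁆ = ⁅d, ⁅d, p⁆⁆ * (⁅d, p⁆ * ⁅d, p⁆) := by
      rw [← hdd]; simp only [commutatorElement_def]; group
    rw [e]
    exact h'.zp_mul (hDF d hd hdz _ hv hvF) (h'.sq_mem _ hv)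
  · push Not at hd
    have hDc : ∀ x ∈ Q, x * z' = z' * x → ∀ y ∈ Q, y * z' = z' * y → x * y = y * x := by
      intro x hx hxz y hy hyz
      have h1 := hd _ (Q.mul_mem hx hy) ((show Commute x z' from hxz).mul_left hyz)
      calc x * y = (x * y)⁻¹ := (inv_eq_of_mul_eq_one_right h1).symm
        _ = y * x := by
          rw [mul_inv_rev, inv_eq_of_mul_eq_one_right (hd x hx hxz),
            inv_eq_of_mul_eq_one_right (hd y hy hyz)]
    obtain ⟨r, hr, hrz, hr2⟩ : ∃ r ∈ Q, z' * r ≠ r * z' ∧ r * r = z := by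
      rcases h.sq_mem q₀ hq₀ with h1 | h1
      · refine ⟨q₀ * z', Q.mul_mem hq₀ hin, fun h2 => hq₀c ?_, ?_⟩
        · rw [← mul_assoc] at h2
          exact mul_right_cancel h2
        · calc q₀ * z' * (q₀ * z') = (q₀ * z' * q₀⁻¹) * (q₀ * q₀) * z' := by group
            _ = z := by rw [hq₀z, h1, mul_one, mul_assoc, h'.sq, mul_one]
      · exact ⟨q₀, hq₀, hq₀c, h1⟩
    have hb : ∀ x ∈ Q, x * x = 1 → x * r = r * x → x = 1 ∨ x = z := by
      intro x hx hx2 hxr
      by_cases hxz : z' * x = x * z'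
      · refine h.omega x hx (fun b hb => ?_) hx2
        by_cases hbz : z' * b = b * z'
        · exact hDc x hx hxz.symm b hb hbz.symm
        · have h1 := hDc x hx hxz.symm _ (Q.mul_mem hr hb)
            (h.comm_mul_of_not_comm hin hr hb hrz hbz).symm
          calc x * b = r⁻¹ * (r * x) * b := by group
            _ = r⁻¹ * (x * (r * b)) := by rw [← hxr]; group
            _ = b * x := by rw [h1]; group
      · exfalso
        have h1 := hd _ (Q.mul_mem hx hr) (h.comm_mul_of_not_comm hin hx hr hxz hrz).symm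
        apply h.ne_one
        calc z = (x * x) * (r * r) := by rw [hx2, hr2, one_mul]
          _ = x * (x * r) * r := by group
          _ = 1 := by rw [hxr, ← h1]; group
    have ha : ∀ y ∈ Q, y * y ≠ 1 → y * r⁻¹ = 1 ∨ y * r⁻¹ = z := by
      intro y hy hy2
      have hyz : z' * y ≠ y * z' := fun h1 => hy2 (hd y hy h1.symm)
      have hrz' : z' * r⁻¹ ≠ r⁻¹ * z' := fun h1 =>
        hrz (by simpa using (show Commute z' r⁻¹ from h1).inv_right.eq)
      have hyr := Q.mul_mem hy (Q.inv_mem hr)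
      have h1 := hd _ hyr (h.comm_mul_of_not_comm hin hy (Q.inv_mem hr) hyz hrz').symm
      refine hb _ hyr h1 ?_
      by_contra h2
      apply hy2
      have h3 := h.conj_eq_mul_z hr hyr (Ne.symm h2)
      calc y * y = (y * r⁻¹) * (r * (y * r⁻¹) * r⁻¹) * (r * r) := by group
        _ = (y * r⁻¹) * z * (y * r⁻¹) * z := by rw [h3, hr2]; group
        _ = (y * r⁻¹ * (y * r⁻¹)) * (z * z) := by
          rw [mul_assoc _ z, ← h.central _ hyr]; group
        _ = 1 := by rw [h1, h.sq, one_mul]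
    have hr' : g * r * g⁻¹ ∈ P := conj_mem_cj hr
    have hrF : z * (g * r * g⁻¹) = g * r * g⁻¹ * z := by
      apply hF₁ _ hr'
      have h1 : g⁻¹ * (z * (g * r * g⁻¹) * z⁻¹) * g ∈ Q :=
        mem_cj.1 (conj_mem_of_mem_normalizer hzN hr')
      have h2 := ha _ h1 (by
        intro h3
        apply h.ne_one
        calc z = g⁻¹ * z⁻¹ * g * ((g⁻¹ * (z * (g * r * g⁻¹) * z⁻¹) * g) *
              (g⁻¹ * (z * (g * r * g⁻¹) * z⁻¹) * g)) * g⁻¹ * z * g * (r * r)⁻¹ * z := by group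
          _ = 1 := by rw [h3, hr2]; group)
      have e : ⁅z, g * r * g⁻¹⁆ = g * (g⁻¹ * (z * (g * r * g⁻¹) * z⁻¹) * g * r⁻¹) * g⁻¹ := by
        rw [commutatorElement_def]; group
      rw [e]
      rcases h2 with h2 | h2 <;> rw [h2]
      · left; group
      · right; rfl
    intro p hp
    have hp' := conj_mem_of_mem_normalizer hzN hp
    have h1 : ⁅z, p⁆ * (g * r * g⁻¹) = g * r * g⁻¹ * ⁅z, p⁆ := by
      have e : z * (g * r * g⁻¹) * z⁻¹ = g * r * g⁻¹ := by rw [hrF]; group
      rw [← commutatorElement_eq_one_iff_mul_comm, commutatorElement_def z,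
        h'.comm_mul_left hp' (P.inv_mem hp) hr', h'.comm_inv_left hp hr']
      nth_rewrite 1 [← e]
      rw [h'.comm_conj hzz hp hr', h'.zp_sq (h'.comm p hp _ hr')]
    have h2 := hb _ (mem_cj.1 (hu p hp)) (by
      calc g⁻¹ * ⁅z, p⁆ * g * (g⁻¹ * ⁅z, p⁆ * g) = g⁻¹ * (⁅z, p⁆ * ⁅z, p⁆) * g := by group
        _ = 1 := by rw [hu2 p hp]; group) (by
      calc g⁻¹ * ⁅z, p⁆ * g * r = g⁻¹ * (⁅z, p⁆ * (g * r * g⁻¹)) * g := by group
        _ = _ := by rw [h1]; group)
    have e : ⁅z, p⁆ = g * (g⁻¹ * ⁅z, p⁆ * g) * g⁻¹ := by group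
    rw [e]
    rcases h2 with h2 | h2 <;> rw [h2]
    · left; group
    · right; rfl

end CL.ClsK
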