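import Cfsg.Agent.Base
import Cfsg.Agent.S1780
import Cfsg.Agent.ClsK.TI

/-!
# TI 2-subgroups
-/

namespace CL.ClsK

open Subgroup
open scoped Pointwise

variable {G : Type*} [Group G]

theorem exists_pow_eq_one_of_mem {p : ℕ} {A : Subgroup G} (hA : IsPGroup p A) {a : G}
    (ha : a ∈ A) : ∃ k : ℕ, a ^ p ^ k = 1 := by
  obtain ⟨k, hk⟩ := hA ⟨a, ha⟩
  exact ⟨k, by simpa using congrArg Subtype.val hk⟩

/-- A 2-element normalizing an abelian 2-subgroup `B` and centralizing every element of `B` which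
its square centralizes, centralizes `B`. -/
theorem comm_of_comm_sq [Finite G] {B : Subgroup G} (hB2 : IsPGroup 2 B)
    (hBc : ∀ a ∈ B, ∀ b ∈ B, a * b = b * a) {t : G} (ht : t ∈ normalizer (B : Set G))
    (ht2 : ∃ k : ℕ, t ^ 2 ^ k = 1)
    (hC : ∀ b ∈ B, t ^ 2 * b = b * t ^ 2 → t * b = b * t) : ∀ b ∈ B, t * b = b * t := by
  let _ : CommGroup B :=
    { (inferInstance : Group B) with mul_comm := fun a b => Subtype.ext (hBc a a.2 b b.2) }
  have : Fact (Nat.Prime 2) := ⟨Nat.prime_two⟩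
  let τ : MulAut B := B.normalizerMonoidHom ⟨t, ht⟩
  have hτ : ∀ b : B, ((τ b : B) : G) = t * b * t⁻¹ := fun b => rfl
  obtain ⟨k, hk⟩ := ht2
  have hτk : τ ^ 2 ^ k = 1 := by
    rw [← map_pow]
    have : (⟨t, ht⟩ : normalizer (B : Set G)) ^ 2 ^ k = 1 := Subtype.ext (by simpa using hk)
    rw [this, map_one]
  have hord : ∃ j : ℕ, orderOf τ = 2 ^ j := by
    obtain ⟨j, -, hj⟩ := (Nat.dvd_prime_pow Nat.prime_two).1 (orderOf_dvd_of_pow_eq_one hτk)
    exact ⟨j, hj⟩
  have key := Cfsg.Agent.S1780.result hB2 τ hord (fun a ha => by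
    have h1 := congrArg Subtype.val ha
    rw [hτ, hτ] at h1
    have h2 := hC a a.2 (by
      calc t ^ 2 * a = t * (t * a * t⁻¹) * t⁻¹ * t ^ 2 := by rw [sq]; group
        _ = a * t ^ 2 := by rw [h1])
    apply Subtype.ext
    rw [hτ, h2]; group)
  intro b hb
  have h1 := congrArg Subtype.val (key ⟨b, hb⟩)
  rw [hτ] at h1
  calc t * b = t * b * t⁻¹ * t := by group
    _ = b * t := by rw [h1]

/-- Two distinct conjugates of an abelian TI 2-subgroup commute as soon as an element of order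
at least four of one of them normalizes the other. -/
theorem IsTI.comm_of_mem_normalizer [Finite G] {A B : Subgroup G} (hA2 : IsPGroup 2 A)
    (hB2 : IsPGroup 2 B) (hBc : ∀ a ∈ B, ∀ b ∈ B, a * b = b * a) (hA : IsTI A)
    (hAB : A ⊓ B = ⊥) (hBti : IsTI B)
    (hcard' : Nat.card A ≤ Nat.card B)
    {t : G} (htA : t ∈ A) (ht : t ∈ normalizer (B : Set G)) (ht2 : t ^ 2 ≠ 1) :
    ∀ a ∈ A, ∀ b ∈ B, a * b = b * a := by
  have : Fact (Nat.Prime 2) := ⟨Nat.prime_two⟩
  have h1 : ∀ b ∈ B, t * b = b * t := by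
    refine comm_of_comm_sq hB2 hBc ht (exists_pow_eq_one_of_mem hA2 htA) ?_
    intro b hb hcomm
    have hbN : b ∈ normalizer (A : Set G) :=
      hA.mem_normalizer_of_comm (A.pow_mem htA 2) ht2 hcomm.symm
    have h2 : t * b * t⁻¹ * b⁻¹ ∈ A ⊓ B := by
      refine ⟨?_, B.mul_mem (conj_mem_of_mem_normalizer ht hb) (B.inv_mem hb)⟩
      have := A.mul_mem htA (conj_mem_of_mem_normalizer hbN (A.inv_mem htA))
      simpa [mul_assoc] using this
    rw [hAB, mem_bot] at h2
    calc t * b = t * b * t⁻¹ * b⁻¹ * (b * t) := by group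
      _ = b * t := by rw [h2, one_mul]
  have ht1 : t ≠ 1 := by rintro rfl; simp at ht2
  have hN : B ≤ normalizer (A : Set G) := fun b hb =>
    hA.mem_normalizer_of_comm htA ht1 (h1 b hb).symm
  exact comm_of_ti_normalizes hA2 hB2 (fun a _ b hb hb1 h => hBti.mem_normalizer hb hb1 h)
    hcard' hAB hN

/-- A family of subgroups of equal order of a 2-subgroup `S`, invariant under `S`, pairwise meeting
trivially, none of exponent two, consists of pairwise commuting subgroups. -/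
theorem ti_family_comm [Finite G] {S : Subgroup G} (hS : IsPGroup 2 S) (Δ : Set (Subgroup G))
    (hinv : ∀ s ∈ S, ∀ R ∈ Δ, R ≤ S → cj s R ∈ Δ)
    (hΦ : ∀ R ∈ Δ, ∃ r ∈ R, r ^ 2 ≠ 1) (hord : ∀ R ∈ Δ, ∀ T ∈ Δ, Nat.card R = Nat.card T)
    (hti : ∀ R ∈ Δ, ∀ T ∈ Δ, R = T ∨ R ⊓ T = ⊥) :
    ∀ R ∈ Δ, ∀ T ∈ Δ, R ≤ S → T ≤ S → R ≠ T → ∀ r ∈ R, ∀ t ∈ T, r * t = t * r := by
  have : Fact (Nat.Prime 2) := ⟨Nat.prime_two⟩
  have hne : ∀ R ∈ Δ, R ≠ ⊥ := by
    intro R hR h
    obtain ⟨r, hr, hr2⟩ := hΦ R hR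
    rw [h, mem_bot] at hr
    simp [hr] at hr2
  have hTI : ∀ R ∈ Δ, R ≤ S → ∀ s ∈ S, ∀ r ∈ R, r ≠ 1 → s * r * s⁻¹ ∈ R →
      s ∈ normalizer (R : Set G) := by
    intro R hR hRS s hs r hr hr1 h
    rcases hti _ (hinv s hs R hR hRS) R hR with h1 | h1
    · exact cj_eq_iff.1 h1
    · exfalso
      have : s * r * s⁻¹ ∈ cj s R ⊓ R := ⟨conj_mem_cj hr, h⟩
      rw [h1, mem_bot] at this
      apply hr1
      calc r = s⁻¹ * (s * r * s⁻¹) * s := by group
        _ = 1 := by rw [this]; group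
  suffices H : ∀ n : ℕ, ∀ H : Subgroup G, H ≤ S → Nat.card H = n → ∀ R ∈ Δ, ∀ T ∈ Δ,
      R ≤ H → T ≤ H → R ≠ T → ∀ r ∈ R, ∀ t ∈ T, r * t = t * r from
    H _ S le_rfl rfl
  intro n
  induction n using Nat.strong_induction_on with
  | _ n ih =>
  intro H hHS hn
  have hH : IsPGroup 2 H := hS.to_le hHS
  -- distinct conjugates of a proper member commute
  have hconj : ∀ R ∈ Δ, R < H → ∀ h ∈ H, h ∉ normalizer (R : Set G) →
      ∀ r ∈ R, ∀ r' ∈ R, r * (h * r' * h⁻¹) = h * r' * h⁻¹ * r := by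
    intro R hR hRH h hh hhN r hr r' hr'
    obtain ⟨M, hRM, hMH, hMn⟩ := exists_normal_lt_of_lt hH hRH
    have hlt : Nat.card M < n := by
      rw [← hn]
      refine lt_of_le_of_ne (card_le_of_le hMH.le) fun h => hMH.ne ?_
      exact eq_of_le_of_card_ge hMH.le h.ge
    refine ih _ hlt M (hMH.le.trans hHS) rfl R hR (cj h R)
      (hinv h (hHS hh) R hR (hRH.le.trans hHS)) hRM (cj_le_of_mem_normalizer (hMn hh) hRM)
      (fun h' => hhN (cj_eq_iff.1 h'.symm)) r hr _ (conj_mem_cj hr')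
  have hlt : ∀ R ∈ Δ, ∀ T ∈ Δ, R ≤ H → T ≤ H → R ≠ T → R < H := by
    intro R hR T hT hRH hTH hRT
    refine lt_of_le_of_ne hRH fun h => ?_
    have h1 := (hti R hR T hT).resolve_left hRT
    rw [inf_of_le_right (h ▸ hTH)] at h1
    exact hne T hT h1
  -- if neither normalizes the other, the normalizers are trivial
  have htriv : ∀ R ∈ Δ, ∀ T ∈ Δ, R ≤ H → T ≤ H → R ≠ T → ¬ R ≤ normalizer (T : Set G) →
      ¬ T ≤ normalizer (R : Set G) → ∀ x ∈ R, x ∈ normalizer (T : Set G) → x = 1 := by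
    intro R hR T hT hRH hTH hRT hRN hTN
    obtain ⟨t, ht, htN⟩ := SetLike.not_le_iff_exists.1 hTN
    have key : ∀ r ∈ R, r ∉ normalizer (T : Set G) → ∀ x ∈ R, x ∈ normalizer (T : Set G) →
        r * x = x * r → x = 1 := by
      intro r hr hrN x hx hxN hrx
      by_contra hx1
      have hu : x⁻¹ * (t * x * t⁻¹) ∈ T := by
        have := T.mul_mem (conj_inv_mem_of_mem_normalizer hxN ht) (T.inv_mem ht)
        simpa [mul_assoc] using this
      have hu1 : x⁻¹ * (t * x * t⁻¹) ≠ 1 := by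
        intro h
        apply htN
        refine hTI R hR (hRH.trans hHS) t (hHS (hTH ht)) x hx hx1 ?_
        rw [inv_mul_eq_one] at h
        rw [← h]; exact hx
      apply hrN
      refine hTI T hT (hTH.trans hHS) r (hHS (hRH hr)) _ hu hu1 ?_
      have h1 := hconj R hR (hlt R hR T hT hRH hTH hRT) t (hTH ht) htN r hr x hx
      have h2 : r * x⁻¹ = x⁻¹ * r := by
        calc r * x⁻¹ = x⁻¹ * (x * r) * x⁻¹ := by group
          _ = x⁻¹ * r := by rw [← hrx]; group
      have : r * (x⁻¹ * (t * x * t⁻¹)) * r⁻¹ = x⁻¹ * (t * x * t⁻¹) := by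
        calc r * (x⁻¹ * (t * x * t⁻¹)) * r⁻¹ = (r * x⁻¹) * (t * x * t⁻¹) * r⁻¹ := by group
          _ = x⁻¹ * (r * (t * x * t⁻¹)) * r⁻¹ := by rw [h2]; group
          _ = x⁻¹ * (t * x * t⁻¹) := by rw [h1]; group
      rw [this]; exact hu
    obtain ⟨r, hr, hrN⟩ := SetLike.not_le_iff_exists.1 hRN
    obtain ⟨z, hz, hz1, hzc⟩ := exists_central_of_ne_bot ((hH.to_le hRH)) le_rfl le_normalizer
      (hne R hR)
    intro x hx hxN
    by_cases hzN : z ∈ normalizer (T : Set G)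
    · exact absurd (key r hr hrN z hz hzN (hzc r hr)) hz1
    · exact key z hz hzN x hx hxN (hzc x hx).symm
  intro R hR T hT hRH hTH hRT
  have hRT' : R ⊓ T = ⊥ := (hti R hR T hT).resolve_left hRT
  by_cases hTN : T ≤ normalizer (R : Set G)
  · exact comm_of_ti_normalizes (hH.to_le hRH) (hH.to_le hTH)
      (fun a ha b hb hb1 h => hTI T hT (hTH.trans hHS) a (hHS (hRH ha)) b hb hb1 h)
      (hord R hR T hT).le hRT' hTN
  by_cases hRN : R ≤ normalizer (T : Set G)
  · intro r hr t ht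
    exact (comm_of_ti_normalizes (hH.to_le hTH) (hH.to_le hRH)
      (fun a ha b hb hb1 h => hTI R hR (hRH.trans hHS) a (hHS (hTH ha)) b hb hb1 h)
      (hord T hT R hR).le (by rw [inf_comm]; exact hRT') hRN t ht r hr).symm
  exfalso
  have h1 := htriv R hR T hT hRH hTH hRT hRN hTN
  have h2 := htriv T hT R hR hTH hRH hRT.symm hTN hRN
  obtain ⟨t, ht, hto⟩ := exists_orderOf_eq_of_ne_bot (hH.to_le hTH) (hne T hT)
  have ht1 : t ≠ 1 := by rintro rfl; simp at hto
  have ht2 : t * t = 1 := by rw [← sq, ← hto]; exact pow_orderOf_eq_one t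
  have hti' : t⁻¹ = t := inv_eq_of_mul_eq_one_right ht2
  have htN : t ∉ normalizer (R : Set G) := fun h => ht1 (h2 t ht h)
  obtain ⟨r, hr, hr2⟩ := hΦ R hR
  have hr1 : r ≠ 1 := by rintro rfl; simp at hr2
  have hrN : r⁻¹ ∉ normalizer (T : Set G) := fun h => hr1 (h1 r hr (by simpa using h))
  have h3 := hconj T hT (hlt T hT R hR hTH hRH hRT.symm) r⁻¹ (hRH (R.inv_mem hr)) hrN t ht t ht
  have h4 := hconj R hR (hlt R hR T hT hRH hTH hRT) t (hTH ht) htN r hr r hr
  rw [inv_inv] at h3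
  rw [hti'] at h4
  apply htN
  refine hTI R hR (hRH.trans hHS) t (hHS (hTH ht)) (r ^ 2) (R.pow_mem hr 2) hr2 ?_
  have h5 : t * r ^ 2 * t⁻¹ = r ^ 2 := by
    -- `r⁻¹ (t r t)` commutes with `t`
    have e1 : t * r⁻¹ * t * r = r⁻¹ * (t * r * t) := by
      calc t * r⁻¹ * t * r = t * (r⁻¹ * t * r) := by group
        _ = r⁻¹ * t * r * t := h3
        _ = _ := by group
    have e2 : t * r⁻¹ * t = (t * r * t)⁻¹ := by simp [hti', mul_assoc]
    rw [e2] at e1
    set s := t * r * t with hs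
    have e3 : t * r ^ 2 * t⁻¹ = s ^ 2 := by
      rw [hti', hs, sq, sq]
      calc t * (r * r) * t = t * r * (t * t) * r * t := by rw [ht2]; group
        _ = _ := by group
    rw [e3]
    calc s ^ 2 = s * r * (r⁻¹ * s) := by rw [sq]; group
      _ = s * r * (s⁻¹ * r) := by rw [e1]
      _ = r * s * (s⁻¹ * r) := by rw [h4]
      _ = r ^ 2 := by rw [sq]; group
  rw [h5]; exact R.pow_mem hr 2

/-- In a finite group of exponent dividing two the Frattini subgroup is trivial. -/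
theorem frattini_eq_bot_of_sq {R : Type*} [Group R] [Finite R] (h : ∀ r : R, r ^ 2 = 1) :
    frattini R = ⊥ := by
  have hinv : ∀ r : R, r⁻¹ = r := fun r => inv_eq_of_mul_eq_one_right (by rw [← sq, h])
  have hcomm : ∀ a b : R, a * b = b * a := fun a b => by
    rw [← hinv (a * b), mul_inv_rev, hinv, hinv]
  rw [eq_bot_iff]
  intro x hx
  by_contra hx1
  obtain ⟨M, hxM, hmax⟩ := Finite.exists_le_maximal (p := fun M : Subgroup R => x ∉ M)
    (a := ⊥) hx1
  have hM : IsCoatom M := by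
    refine ⟨fun h => hmax.1 (h ▸ mem_top x), fun K hK => ?_⟩
    rw [eq_top_iff]
    intro y _
    by_contra hyK
    have hxK : x ∈ K := by
      by_contra h'
      exact (not_le_of_gt hK) (hmax.2 h' hK.le)
    let L : Subgroup R :=
      { carrier := {g | g ∈ M ∨ g * y ∈ M}
        one_mem' := Or.inl M.one_mem
        inv_mem' := fun {g} hg => by rw [hinv]; exact hg
        mul_mem' := by
          rintro a b (ha | ha) (hb | hb)
          · exact Or.inl (M.mul_mem ha hb)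
          · exact Or.inr (by rw [mul_assoc]; exact M.mul_mem ha hb)
          · refine Or.inr ?_
            rw [mul_assoc, hcomm b, ← mul_assoc]; exact M.mul_mem ha hb
          · refine Or.inl ?_
            have := M.mul_mem ha hb
            rwa [mul_assoc, hcomm b y, ← mul_assoc y, ← sq, h, one_mul] at this }
    have hxL : x ∈ L := by
      by_contra h'
      have := hmax.2 h' (fun g hg => Or.inl hg)
      have hy : y ∈ L := Or.inr (by rw [← sq, h]; exact M.one_mem)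
      exact hyK (hK.le (this hy))
    rcases hxL with h1 | h1
    · exact hmax.1 h1
    · apply hyK
      have := K.mul_mem (K.inv_mem hxK) (hK.le h1)
      simpa using this
  exact hmax.1 (frattini_le_coatom hM hx)

end CL.ClsK
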